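import Cfsg.Agent.Lib.Helper44.Simil

set_option autoImplicit false

namespace Cfsg.Agent.Lib.Helper44

open QuadraticMap Module Matrix

universe u

variable {F : Type u} [Field F] {ι : Type} [Fintype ι] [DecidableEq ι]

/-- a homomorphism with values `±1` in `Fˣ`, read in `ℤˣ` -/
noncomputable def signHom {Γ : Type*} [Group Γ] (f : Γ →* Fˣ) (hf : ∀ g, f g = 1 ∨ f g = -1)
    (hne : (-1 : Fˣ) ≠ 1) : Γ →* ℤˣ where
  toFun g := open Classical in if f g = 1 then 1 else -1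
  map_one' := by simp
  map_mul' a b := by
    rcases hf a with ha | ha <;> rcases hf b with hb | hb <;> simp [ha, hb, hne]

theorem signHom_eq_one_iff {Γ : Type*} [Group Γ] (f : Γ →* Fˣ) (hf : ∀ g, f g = 1 ∨ f g = -1)
    (hne : (-1 : Fˣ) ≠ 1) (g : Γ) : signHom f hf hne g = 1 ↔ f g = 1 := by
  classical
  change (if f g = 1 then (1 : ℤˣ) else -1) = 1 ↔ _
  by_cases h : f g = 1
  · simp [h]
  · simp only [h, if_false, iff_false]
    decide

theorem neg_one_units_ne_one (h2 : (2 : F) ≠ 0) : (-1 : Fˣ) ≠ 1 := by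
  intro h
  have := congrArg Units.val h
  simp only [Units.val_neg, Units.val_one] at this
  apply h2
  linear_combination -this

/-- quadratic character of the multiplier -/
noncomputable def chi1 [Fintype F] (Q : QuadraticForm F (ι → F)) (hex : ∃ v, Q v ≠ 0) :
    ↥(Cfsg.Geo.quadSimilarityGroup ⇑Q) →* ℤˣ :=
  open Classical in (quadraticChar F).toUnitHom.comp (multHom Q hex)

theorem chi1_eq_one_iff [Fintype F] (Q : QuadraticForm F (ι → F)) (hex : ∃ v, Q v ≠ 0)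
    (g : ↥(Cfsg.Geo.quadSimilarityGroup ⇑Q)) : chi1 Q hex g = 1 ↔ IsSquare (multF Q g : F) := by
  classical
  rw [← quadraticChar_one_iff_isSquare (multF Q g).ne_zero, ← Units.val_inj]
  have : ((chi1 Q hex g : ℤˣ) : ℤ) = quadraticChar F (multF Q g : F) := by
    rw [chi1]
    simp only [MonoidHom.coe_comp, Function.comp_apply, MulChar.coe_toUnitHom, multHom_apply]
  rw [this]; simp

/-- `det g / λ(g)^m` -/
noncomputable def detMult (Q : QuadraticForm F (ι → F)) (hex : ∃ v, Q v ≠ 0) (m : ℕ) :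
    ↥(Cfsg.Geo.quadSimilarityGroup ⇑Q) →* Fˣ :=
  (Matrix.GeneralLinearGroup.det.comp (Cfsg.Geo.quadSimilarityGroup ⇑Q).subtype)
    * ((multHom Q hex) ^ m)⁻¹

theorem detMult_eq_one_iff (Q : QuadraticForm F (ι → F)) (hex : ∃ v, Q v ≠ 0) (m : ℕ)
    (g : ↥(Cfsg.Geo.quadSimilarityGroup ⇑Q)) :
    detMult Q hex m g = 1 ↔ ((g : GL ι F) : Matrix ι ι F).det = (multF Q g : F) ^ m := by
  rw [detMult, MonoidHom.mul_apply, MonoidHom.inv_apply, MonoidHom.pow_apply, mul_inv_eq_one,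
    ← Units.val_inj]
  simp [multHom_apply]

theorem detMult_eq_or {Q : QuadraticForm F (ι → F)} (hQ : (polarBilin Q).Nondegenerate)
    (hex : ∃ v, Q v ≠ 0) (m : ℕ) (hm : Fintype.card ι = 2 * m)
    (g : ↥(Cfsg.Geo.quadSimilarityGroup ⇑Q)) : detMult Q hex m g = 1 ∨ detMult Q hex m g = -1 := by
  have h1 := det_sq_simil hQ g
  have h2 : (detMult Q hex m g : F) * (detMult Q hex m g : F) = 1 := by
    rw [detMult, MonoidHom.mul_apply, MonoidHom.inv_apply, MonoidHom.pow_apply]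
    simp only [MonoidHom.coe_comp, Subgroup.coe_subtype, Function.comp_apply, multHom_apply,
      Units.val_mul, Matrix.GeneralLinearGroup.val_det_apply, Units.val_inv_eq_inv_val,
      Units.val_pow_eq_pow_val]
    have h3 : (multF Q g : F) ≠ 0 := (multF Q g).ne_zero
    rw [hm, pow_mul'] at h1
    field_simp
    rw [h1]
  rcases mul_self_eq_one_iff.1 h2 with h | h
  · left; exact Units.ext h
  · right; exact Units.ext (by simpa using h)

/-- sign of `det g / λ(g)^m` -/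
noncomputable def chi2 (h2 : (2 : F) ≠ 0) {Q : QuadraticForm F (ι → F)}
    (hQ : (polarBilin Q).Nondegenerate)
    (hex : ∃ v, Q v ≠ 0) (m : ℕ) (hm : Fintype.card ι = 2 * m) :
    ↥(Cfsg.Geo.quadSimilarityGroup ⇑Q) →* ℤˣ :=
  signHom (detMult Q hex m) (detMult_eq_or hQ hex m hm) (neg_one_units_ne_one h2)

theorem chi2_eq_one_iff (h2 : (2 : F) ≠ 0) {Q : QuadraticForm F (ι → F)}
    (hQ : (polarBilin Q).Nondegenerate)
    (hex : ∃ v, Q v ≠ 0) (m : ℕ) (hm : Fintype.card ι = 2 * m)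
    (g : ↥(Cfsg.Geo.quadSimilarityGroup ⇑Q)) :
    chi2 h2 hQ hex m hm g = 1 ↔ ((g : GL ι F) : Matrix ι ι F).det = (multF Q g : F) ^ m := by
  rw [chi2, signHom_eq_one_iff, detMult_eq_one_iff]

/-- the isometry group inside the similarity group -/
noncomputable def ofO (Q : QuadraticForm F (ι → F)) :
    ↥(Cfsg.isometryGroup F ⇑Q) →* ↥(Cfsg.Geo.quadSimilarityGroup ⇑Q) :=
  Subgroup.inclusion (isometryGroup_le_quadSimilarityGroup ⇑Q)

theorem ofO_coe (Q : QuadraticForm F (ι → F)) (s : ↥(Cfsg.isometryGroup F ⇑Q)) :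
    ((ofO Q s : ↥(Cfsg.Geo.quadSimilarityGroup ⇑Q)) : GL ι F) = (s : GL ι F) := rfl

theorem multF_eq_one_of_isometry {Q : QuadraticForm F (ι → F)} (hex : ∃ v, Q v ≠ 0)
    (g : ↥(Cfsg.Geo.quadSimilarityGroup ⇑Q)) (hg : (g : GL ι F) ∈ Cfsg.isometryGroup F ⇑Q) :
    multF Q g = 1 :=
  multF_unique hex g 1 (fun v => by rw [mem_isometryGroup.1 hg v]; simp)

theorem multF_of_scalar {Q : QuadraticForm F (ι → F)} (hex : ∃ v, Q v ≠ 0)
    (g : ↥(Cfsg.Geo.quadSimilarityGroup ⇑Q)) (μ : F)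
    (hg : ((g : GL ι F) : Matrix ι ι F) = μ • (1 : Matrix ι ι F)) : (multF Q g : F) = μ * μ := by
  obtain ⟨v, hv⟩ := hex
  have h1 := multF_spec Q g v
  rw [hg, Matrix.smul_mulVec, Matrix.one_mulVec, QuadraticMap.map_smul, smul_eq_mul] at h1
  exact (mul_right_cancel₀ hv h1).symm

/-- `ψ₁ = (χ₁, χ₂)` -/
noncomputable def psi1 [Fintype F] (h2 : (2 : F) ≠ 0) {Q : QuadraticForm F (ι → F)}
    (hQ : (polarBilin Q).Nondegenerate)
    (hex : ∃ v, Q v ≠ 0) (m : ℕ) (hm : Fintype.card ι = 2 * m) :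
    ↥(Cfsg.Geo.quadSimilarityGroup ⇑Q) →* ℤˣ × ℤˣ :=
  (chi1 Q hex).prod (chi2 h2 hQ hex m hm)

theorem mem_ker_psi1_iff [Fintype F] (h2 : (2 : F) ≠ 0) {Q : QuadraticForm F (ι → F)}
    (hQ : (polarBilin Q).Nondegenerate)
    (hex : ∃ v, Q v ≠ 0) (m : ℕ) (hm : Fintype.card ι = 2 * m)
    (g : ↥(Cfsg.Geo.quadSimilarityGroup ⇑Q)) :
    g ∈ (psi1 h2 hQ hex m hm).ker ↔ IsSquare (multF Q g : F) ∧
      ((g : GL ι F) : Matrix ι ι F).det = (multF Q g : F) ^ m := by
  rw [MonoidHom.mem_ker, psi1, MonoidHom.prod_apply, Prod.mk_eq_one, chi1_eq_one_iff,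
    chi2_eq_one_iff]

theorem ker_psi1_eq [Fintype F] (h2 : (2 : F) ≠ 0) {Q : QuadraticForm F (ι → F)}
    (hQ : (polarBilin Q).Nondegenerate) (hn : 5 ≤ Fintype.card ι)
    (hex : ∃ v, Q v ≠ 0) (m : ℕ) (hm : Fintype.card ι = 2 * m) :
    (psi1 h2 hQ hex m hm).ker =
      (Cfsg.specialIsometryGL F ⇑Q).subgroupOf (Cfsg.Geo.quadSimilarityGroup ⇑Q)
        ⊔ (conjPOmega ⇑Q).ker := by
  apply le_antisymm
  · intro g hg
    rw [mem_ker_psi1_iff] at hg
    obtain ⟨⟨μ, hμ⟩, hdet⟩ := hg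
    have hμ0 : μ ≠ 0 := by
      rintro rfl
      exact (multF Q g).ne_zero (by rw [hμ]; simp)
    set μu : Fˣ := Units.mk0 μ hμ0 with hμu
    have hs : g * (scalSimil Q μu)⁻¹ ∈
        (Cfsg.specialIsometryGL F ⇑Q).subgroupOf (Cfsg.Geo.quadSimilarityGroup ⇑Q) := by
      rw [Subgroup.mem_subgroupOf]
      have hmat : (((g * (scalSimil Q μu)⁻¹ : ↥(Cfsg.Geo.quadSimilarityGroup ⇑Q)) : GL ι F) :
          Matrix ι ι F) = μ⁻¹ • ((g : GL ι F) : Matrix ι ι F) := by
        have h3 : (((scalSimil Q μu)⁻¹ : ↥(Cfsg.Geo.quadSimilarityGroup ⇑Q)) : GL ι F)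
            = ((scalSimil Q μu⁻¹ : ↥(Cfsg.Geo.quadSimilarityGroup ⇑Q)) : GL ι F) := by
          rw [InvMemClass.coe_inv, inv_eq_iff_mul_eq_one]
          apply Units.ext
          rw [Units.val_mul, scalSimil_coe, scalSimil_coe]
          simp [hμu, smul_smul, hμ0]
        rw [Subgroup.coe_mul, h3, Units.val_mul, scalSimil_coe]
        simp [hμu]
      constructor
      · change _ ∈ Cfsg.isometryGroup F ⇑Q
        rw [mem_isometryGroup]
        intro v
        rw [hmat, Matrix.smul_mulVec, QuadraticMap.map_smul, multF_spec, hμ, smul_eq_mul]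
        field_simp
      · change _ ∈ Cfsg.Geo.specialLinear ι F
        rw [Cfsg.Geo.specialLinear, MonoidHom.mem_ker, ← Units.val_inj]
        rw [Matrix.GeneralLinearGroup.val_det_apply, hmat, Matrix.det_smul, hdet, hμ, hm]
        rw [Units.val_one, pow_mul, ← mul_pow]
        have : μ⁻¹ ^ 2 * (μ * μ) = 1 := by field_simp
        rw [this, one_pow]
    have hz : scalSimil Q μu ∈ (conjPOmega ⇑Q).ker :=
      (mem_ker_conjPOmega_iff h2 Q hQ hn _).2 ⟨μ, scalSimil_coe Q μu⟩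
    have : g = (g * (scalSimil Q μu)⁻¹) * scalSimil Q μu := by group
    rw [this]
    exact mul_mem (Subgroup.mem_sup_left hs) (Subgroup.mem_sup_right hz)
  · apply sup_le
    · intro g hg
      rw [Subgroup.mem_subgroupOf] at hg
      rw [mem_ker_psi1_iff, multF_eq_one_of_isometry hex g hg.1]
      refine ⟨by simp, ?_⟩
      have h3 : (g : GL ι F) ∈ Cfsg.Geo.specialLinear ι F := hg.2
      rw [Cfsg.Geo.specialLinear, MonoidHom.mem_ker, ← Units.val_inj] at h3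
      simpa using h3
    · intro g hg
      obtain ⟨μ, hμ⟩ := (mem_ker_conjPOmega_iff h2 Q hQ hn g).1 hg
      rw [mem_ker_psi1_iff, multF_of_scalar hex g μ hμ]
      refine ⟨⟨μ, rfl⟩, ?_⟩
      rw [hμ, Matrix.det_smul, Matrix.det_one, mul_one, hm, pow_mul, pow_two]

end Cfsg.Agent.Lib.Helper44
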