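import Cfsg.Agent.Lib.Helper44.AdjEnd
import Cfsg.Agent.Lib.Helper44.Transport
import Cfsg.Agent.S0750

set_option autoImplicit false

namespace Cfsg.Agent.Lib.Helper44

open LinearMap LinearMap.BilinForm QuadraticMap

theorem pow_eq_one_of_semiconj {M : Type*} [Monoid M] {A A' P P' : M} {k : ℕ} (hAk : A ^ k = 1)
    (hP1 : P * P' = 1) (hPA : P * A = A' * P) : A' ^ k = 1 := by
  have h1 : P * A ^ k = A' ^ k * P := (SemiconjBy.pow_right (show SemiconjBy P A A' from hPA) k).eq
  rw [hAk, mul_one] at h1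
  calc A' ^ k = A' ^ k * (P * P') := by rw [hP1, mul_one]
    _ = 1 := by rw [← mul_assoc, ← h1, hP1]

theorem orth_conj {F V : Type*} [Field F] [Finite F] [AddCommGroup V] [Module F V]
    [FiniteDimensional F V] (Q : QuadraticForm F V)
    (hQ : (QuadraticMap.polarBilin Q).Nondegenerate) (A A' P P' : Module.End F V)
    (hA : ∀ v, Q (A v) = Q v) (hA' : ∀ v, Q (A' v) = Q v) (j k : ℕ) (hk : Odd k)
    (hjk : (j : F) * (k : F) = 1) (hAk : A ^ k = 1)
    (hP1 : P * P' = 1) (hP2 : P' * P = 1) (hPA : P * A = A' * P) :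
    ∃ g : V ≃ₗ[F] V, (∀ v, Q (g v) = Q v) ∧ ∀ v, g (A v) = A' (g v) := by
  have hpol : ∀ (T : V → V), (∀ x y, T (x + y) = T x + T y) → (∀ v, Q (T v) = Q v) → ∀ x y,
      polarBilin Q (T x) (T y) = polarBilin Q x y := by
    intro T hT1 hT2 x y
    simp only [polarBilin_apply_apply, QuadraticMap.polar, ← hT1, hT2]
  have hβA := hpol A (map_add A) hA
  have hβA' := hpol A' (map_add A') hA'
  have hε : ∀ x y, polarBilin Q x y = 1 * polarBilin Q y x := by
    intro x y
    rw [one_mul, polarBilin_apply_apply, polarBilin_apply_apply, polar_comm]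
  have hAk' : A' ^ k = 1 := pow_eq_one_of_semiconj hAk hP1 hPA
  obtain ⟨U, U', hU1, hU2, hU3, hU4⟩ := exists_partial_isometry (polarBilin Q) hQ 1 hε (one_mul 1)
    A A' P P' hβA hβA' j k hjk hAk hP1 hP2 hPA
  have hjk' := natCast_mul_end (V := V) hjk
  have hC : (A * A) ^ k = 1 := by
    rw [(Commute.refl A).mul_pow, hAk, one_mul]
  have hC' : (A' * A') ^ k = 1 := by
    rw [(Commute.refl A').mul_pow, hAk', one_mul]
  have hUC : U * (A * A) = (A' * A') * U := by
    rw [← mul_assoc, hU3, mul_assoc, hU3, mul_assoc]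
  have hUe : U * avg j k (A * A) = avg j k (A' * A') * U := semiconj_avg hUC
  set e := avg j k (A * A) with he
  set e' := avg j k (A' * A') with he'
  have hee : e * e = e := avg_idem hjk' hC
  have hfix : ∀ x, e x = 0 → (1 - e) x = x := by
    intro x hx
    simp [hx]
  have hU4' : ∀ x y, e x = 0 → polarBilin Q (U x) (U y) = polarBilin Q x y := by
    intro x y hx
    have := hU4 x y
    rwa [hfix x hx] at this
  -- the quadratic form is preserved on `ker e`
  have hadd : ∀ x y, e x = 0 → Q (U (x + y)) - Q (x + y) = (Q (U x) - Q x) + (Q (U y) - Q y) := by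
    intro x y hx
    have h1 := hU4' x y hx
    rw [polarBilin_apply_apply, polarBilin_apply_apply] at h1
    rw [map_add U, QuadraticMap.map_add Q, QuadraticMap.map_add Q, h1]
    ring
  have hinv : ∀ x, Q (U ((A * A) x)) - Q ((A * A) x) = Q (U x) - Q x := by
    intro x
    have h1 : U ((A * A) x) = (A' * A') (U x) := LinearMap.congr_fun hUC x
    rw [h1]
    simp only [Module.End.mul_apply, hA, hA']
  have hinv' : ∀ (i : ℕ) x, Q (U (((A * A) ^ i) x)) - Q (((A * A) ^ i) x) = Q (U x) - Q x := by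
    intro i
    induction i with
    | zero => intro x; simp
    | succ i ih =>
      intro x
      rw [pow_succ', Module.End.mul_apply, hinv, ih]
  have hei : ∀ (i : ℕ) x, e x = 0 → e (((A * A) ^ i) x) = 0 := by
    intro i x hx
    have h1 : e * (A * A) ^ i = e := by
      induction i with
      | zero => simp
      | succ i ih => rw [pow_succ', ← mul_assoc, he, avg_mul hC, ← he, ih]
    rw [← Module.End.mul_apply, h1, hx]
  have hsum : ∀ (l : ℕ) x, e x = 0 →
      Q (U (∑ i ∈ Finset.range l, ((A * A) ^ i) x)) - Q (∑ i ∈ Finset.range l, ((A * A) ^ i) x) =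
        l * (Q (U x) - Q x) := by
    intro l x hx
    induction l with
    | zero => simp
    | succ l ih =>
      rw [Finset.sum_range_succ, add_comm, hadd _ _ (hei l x hx), ih, hinv']
      push_cast
      ring
  have hkey : ∀ x, e x = 0 → Q (U x) = Q x := by
    intro x hx
    have h1 := hsum k x hx
    have h2 : ∑ i ∈ Finset.range k, ((A * A) ^ i) x = 0 := by
      have h3 : (k : Module.End F V) * e = ∑ i ∈ Finset.range k, (A * A) ^ i := by
        rw [he, avg, ← mul_assoc, (Nat.cast_commute k _).eq, hjk', one_mul]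
      have h4 := LinearMap.congr_fun h3 x
      rw [Module.End.mul_apply, hx, map_zero, LinearMap.sum_apply] at h4
      exact h4.symm
    rw [h2] at h1
    simp only [map_zero, sub_self] at h1
    have hk0 : (k : F) ≠ 0 := by
      intro h0
      rw [h0, mul_zero] at hjk
      exact zero_ne_one hjk
    rcases mul_eq_zero.1 h1.symm with h | h
    · exact absurd h hk0
    · exact sub_eq_zero.1 h
  let Ue : V ≃ₗ[F] V := LinearEquiv.ofLinearMap U U' hU1 hU2
  obtain ⟨g, hg1, hg2⟩ := Cfsg.Agent.S0750.result Q hQ (LinearMap.ker e) _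
    (Ue.submoduleMap (LinearMap.ker e)) (by
      intro x
      rw [LinearEquiv.submoduleMap_apply]
      exact hkey x.1 x.2)
  have hg2' : ∀ x, e x = 0 → g x = U x := by
    intro x hx
    have := hg2 ⟨x, hx⟩
    rw [LinearEquiv.submoduleMap_apply] at this
    exact this
  have he1 : ∀ v, e ((1 - e) v) = 0 := by
    intro v
    have := LinearMap.congr_fun hee v
    simp only [Module.End.mul_apply] at this
    simp [this]
  refine ⟨g, hg1, ?_⟩
  apply intertwine_of_partial (polarBilin Q) hQ g (hpol g (map_add g) hg1)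
    (mul_avg_sq_of_odd hAk hk) (mul_avg_sq_of_odd hAk' hk) hee
    (selfAdj_avg (polarBilin Q) hQ 1 hε (one_mul 1) (by intro x y; simp [hβA]) hjk hC)
    (selfAdj_avg (polarBilin Q) hQ 1 hε (one_mul 1) (by intro x y; simp [hβA']) hjk hC')
  · intro v
    have h1 : e (A ((1 - e) v)) = 0 := by
      have h2 : Commute A e := commute_avg ((Commute.refl A).mul_right (Commute.refl A))
      rw [← Module.End.mul_apply, ← h2.eq, Module.End.mul_apply, he1, map_zero]
    rw [hg2' _ h1, hg2' _ (he1 v)]
    exact LinearMap.congr_fun hU3 _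
  · intro y
    refine ⟨U' y, ?_⟩
    rw [hg2' _ (he1 _)]
    have h1 : U * (1 - e) * U' = 1 - e' := by
      rw [mul_sub, mul_one, hUe, sub_mul, mul_assoc, hU1, mul_one]
    rw [← h1]
    rfl

theorem isometryGroup_isConj_iff {F : Type*} [Field F] [Fintype F] {p : ℕ} [Fact p.Prime]
    [CharP F p] {n : ℕ} (Q : QuadraticForm F (Fin n → F))
    (hQ : (QuadraticMap.polarBilin Q).Nondegenerate) (A B : ↥(Cfsg.isometryGroup F ⇑Q))
    (hodd : Odd (orderOf A)) (hA : (orderOf A).Coprime p) :
    IsConj A B ↔ IsConj ((A : Matrix.GeneralLinearGroup (Fin n) F) : Matrix (Fin n) (Fin n) F)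
      ((B : Matrix.GeneralLinearGroup (Fin n) F) : Matrix (Fin n) (Fin n) F) := by
  constructor
  · intro h
    obtain ⟨c, hc⟩ := isConj_iff.1 h
    refine ⟨c.1, ?_⟩
    change ((c : Matrix.GeneralLinearGroup (Fin n) F) : Matrix (Fin n) (Fin n) F) * _ = _ * _
    rw [← hc]
    simp
  · rintro ⟨c, hc⟩
    obtain ⟨j, -, hj⟩ := Nat.exists_mul_mod_eq_one_of_coprime hA (Fact.out : p.Prime).one_lt
    have hjk : (j : F) * (orderOf A : F) = 1 := by
      rw [mul_comm, ← Nat.cast_mul, CharP.cast_eq_mod F p, hj, Nat.cast_one]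
    let T := Matrix.toLinAlgEquiv' (R := F) (n := Fin n)
    obtain ⟨g, hg1, hg2⟩ := orth_conj Q hQ
      (T ((A : Matrix.GeneralLinearGroup (Fin n) F) : Matrix (Fin n) (Fin n) F))
      (T ((B : Matrix.GeneralLinearGroup (Fin n) F) : Matrix (Fin n) (Fin n) F))
      (T (c : Matrix (Fin n) (Fin n) F)) (T ((c⁻¹ : (Matrix (Fin n) (Fin n) F)ˣ) : Matrix (Fin n) (Fin n) F))
      (fun v => by
        rw [Matrix.toLinAlgEquiv'_apply]
        exact mem_isometryGroup.1 A.2 v)
      (fun v => by
        rw [Matrix.toLinAlgEquiv'_apply]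
        exact mem_isometryGroup.1 B.2 v)
      j (orderOf A) hodd hjk
      (by
        rw [← map_pow, ← Units.val_pow_eq_pow_val, ← Subgroup.coe_pow, pow_orderOf_eq_one]
        simp)
      (by rw [← map_mul, Units.mul_inv, map_one])
      (by rw [← map_mul, Units.inv_mul, map_one])
      (by rw [← map_mul, ← map_mul, hc.eq])
    refine isConj_iff.2 ⟨(isoEquiv Q).symm ⟨g, hg1⟩, ?_⟩
    apply (isoEquiv Q).injective
    rw [map_mul, map_mul, map_inv, MulEquiv.apply_symm_apply, mul_inv_eq_iff_eq_mul]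
    apply Subtype.ext
    ext1 v
    change g ((isoEquiv Q A : (Fin n → F) ≃ₗ[F] (Fin n → F)) v) =
      (isoEquiv Q B : (Fin n → F) ≃ₗ[F] (Fin n → F)) (g v)
    rw [isoEquiv_apply, isoEquiv_apply]
    have := hg2 v
    rwa [Matrix.toLinAlgEquiv'_apply, Matrix.toLinAlgEquiv'_apply] at this

end Cfsg.Agent.Lib.Helper44
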