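import Cfsg.Agent.Lib.Helper45.SimSS

/-!
# Semisimple matrices with the same characteristic polynomial are similar
-/

namespace Cfsg.Agent.Lib.Helper44

open Cfsg.Agent.Lib.Helper45 Polynomial

theorem exists_conj_of_charpoly_eq {F : Type*} [Field F] {n : Type*} [Fintype n] [DecidableEq n]
    (p : ℕ) [Fact p.Prime] [CharP F p] {A B : Matrix n n F} {k l : ℕ} (hk : k.Coprime p)
    (hl : l.Coprime p) (hA : A ^ k = 1) (hB : B ^ l = 1) (hc : A.charpoly = B.charpoly) :
    ∃ P : GL n F, (P : Matrix n n F) * A = B * (P : Matrix n n F) := by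
  have hAT := typ_mem_ssTypes_of_coprime p hk hA
  have hBT := typ_mem_ssTypes_of_coprime p hl hB
  have c1 := (hasType_typ A).charpoly_of_mem_ssTypes hAT
  have c2 := (hasType_typ B).charpoly_of_mem_ssTypes hBT
  have h1 : (⟨typ A, hAT⟩ : ssTypes F (Fintype.card n)) = ⟨typ B, hBT⟩ := by
    apply (ssEquiv F (Fintype.card n)).injective
    apply Subtype.ext
    change ((typ A).map Prod.fst).prod = ((typ B).map Prod.fst).prod
    rw [← c1, ← c2, hc]
  have h2 : typ A = typ B := congrArg Subtype.val h1
  exact (hasType_typ A).conj (h2 ▸ hasType_typ B)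

end Cfsg.Agent.Lib.Helper44
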