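import Cfsg.Agent.Lib.Helper44.OmegaUnified

set_option autoImplicit false

namespace Cfsg.Agent.Lib.Helper44

open QuadraticMap Module Matrix

variable {ι₁ ι₂ : Type} [Fintype ι₁] [DecidableEq ι₁] [Fintype ι₂] [DecidableEq ι₂]
  {F : Type*} [Field F]

/-- orthogonal direct sum of two quadratic forms on coordinate spaces -/
noncomputable def sumQF (Q₁ : QuadraticForm F (ι₁ → F)) (Q₂ : QuadraticForm F (ι₂ → F)) :
    QuadraticForm F (ι₁ ⊕ ι₂ → F) :=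
  Q₁.comp (LinearMap.funLeft F F Sum.inl) + Q₂.comp (LinearMap.funLeft F F Sum.inr)

theorem sumQF_coe (Q₁ : QuadraticForm F (ι₁ → F)) (Q₂ : QuadraticForm F (ι₂ → F)) :
    ⇑(sumQF Q₁ Q₂) = fun v : ι₁ ⊕ ι₂ → F => Q₁ (v ∘ Sum.inl) + Q₂ (v ∘ Sum.inr) := by
  ext v
  rfl

theorem sumQF_apply (Q₁ : QuadraticForm F (ι₁ → F)) (Q₂ : QuadraticForm F (ι₂ → F))
    (v : ι₁ ⊕ ι₂ → F) : sumQF Q₁ Q₂ v = Q₁ (v ∘ Sum.inl) + Q₂ (v ∘ Sum.inr) := rfl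

theorem sumQF_polar (Q₁ : QuadraticForm F (ι₁ → F)) (Q₂ : QuadraticForm F (ι₂ → F))
    (x y : ι₁ ⊕ ι₂ → F) : polar (sumQF Q₁ Q₂) x y
      = polar Q₁ (x ∘ Sum.inl) (y ∘ Sum.inl) + polar Q₂ (x ∘ Sum.inr) (y ∘ Sum.inr) := by
  simp only [polar, sumQF_apply]
  have e1 : (x + y) ∘ Sum.inl = x ∘ (Sum.inl : ι₁ → ι₁ ⊕ ι₂) + y ∘ Sum.inl := rfl
  have e2 : (x + y) ∘ Sum.inr = x ∘ (Sum.inr : ι₂ → ι₁ ⊕ ι₂) + y ∘ Sum.inr := rfl
  rw [e1, e2]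
  ring

theorem sumQF_nondeg {Q₁ : QuadraticForm F (ι₁ → F)} {Q₂ : QuadraticForm F (ι₂ → F)}
    (h₁ : (polarBilin Q₁).Nondegenerate) (h₂ : (polarBilin Q₂).Nondegenerate) :
    (polarBilin (sumQF Q₁ Q₂)).Nondegenerate := by
  have key : ∀ x, (∀ y, polar (sumQF Q₁ Q₂) x y = 0) → x = 0 := by
    intro x hx
    have e1 : x ∘ Sum.inl = 0 := by
      apply h₁.1
      intro y
      have := hx (Sum.elim y 0)
      rw [sumQF_polar] at this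
      simpa using this
    have e2 : x ∘ Sum.inr = 0 := by
      apply h₂.1
      intro y
      have := hx (Sum.elim 0 y)
      rw [sumQF_polar] at this
      simpa using this
    ext k
    rcases k with i | i
    · exact congrFun e1 i
    · exact congrFun e2 i
  refine ⟨fun x hx => key x hx, fun x hx => key x fun y => ?_⟩
  rw [polar_comm]; exact hx y

theorem reflectionMatrix_sum_inl (Q₁ : QuadraticForm F (ι₁ → F)) (Q₂ : QuadraticForm F (ι₂ → F))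
    (v : ι₁ → F) : Cfsg.reflectionMatrix ⇑(sumQF Q₁ Q₂) (Sum.elim v 0)
      = Matrix.fromBlocks (Cfsg.reflectionMatrix ⇑Q₁ v) 0 0 1 := by
  apply matrix_ext_mulVec
  intro x
  rw [reflectionMatrix_mulVec, Matrix.fromBlocks_mulVec, reflectionMatrix_mulVec, refl_apply,
    refl_apply, sumQF_polar, sumQF_apply]
  ext k
  rcases k with i | i <;> simp

theorem reflectionMatrix_sum_inr (Q₁ : QuadraticForm F (ι₁ → F)) (Q₂ : QuadraticForm F (ι₂ → F))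
    (v : ι₂ → F) : Cfsg.reflectionMatrix ⇑(sumQF Q₁ Q₂) (Sum.elim 0 v)
      = Matrix.fromBlocks 1 0 0 (Cfsg.reflectionMatrix ⇑Q₂ v) := by
  apply matrix_ext_mulVec
  intro x
  rw [reflectionMatrix_mulVec, Matrix.fromBlocks_mulVec, reflectionMatrix_mulVec, refl_apply,
    refl_apply, sumQF_polar, sumQF_apply]
  ext k
  rcases k with i | i <;> simp

theorem prod_reflectionMatrix_sum_inl (Q₁ : QuadraticForm F (ι₁ → F)) (Q₂ : QuadraticForm F (ι₂ → F))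
    (l : List (ι₁ → F)) :
    ((l.map (fun v => (Sum.elim v 0 : ι₁ ⊕ ι₂ → F))).map
      (fun v => Cfsg.reflectionMatrix ⇑(sumQF Q₁ Q₂) v)).prod
      = Matrix.fromBlocks (l.map (fun v => Cfsg.reflectionMatrix ⇑Q₁ v)).prod 0 0 1 := by
  induction l with
  | nil => simp
  | cons v l ih =>
    simp only [List.map_cons, List.prod_cons] at ih ⊢
    rw [ih, reflectionMatrix_sum_inl, Matrix.fromBlocks_multiply]
    simp

/-- block diagonal embedding of matrices as a monoid hom -/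
def blockMonoidHom (ι₁ ι₂ : Type) [Fintype ι₁] [DecidableEq ι₁] [Fintype ι₂] [DecidableEq ι₂]
    (F : Type*) [Field F] :
    Matrix ι₁ ι₁ F × Matrix ι₂ ι₂ F →* Matrix (ι₁ ⊕ ι₂) (ι₁ ⊕ ι₂) F where
  toFun p := Matrix.fromBlocks p.1 0 0 p.2
  map_one' := by simp
  map_mul' p q := by simp [Matrix.fromBlocks_multiply]

/-- block diagonal embedding of general linear groups -/
def blockGL (ι₁ ι₂ : Type) [Fintype ι₁] [DecidableEq ι₁] [Fintype ι₂] [DecidableEq ι₂]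
    (F : Type*) [Field F] : GL ι₁ F × GL ι₂ F →* GL (ι₁ ⊕ ι₂) F :=
  (Units.map (blockMonoidHom ι₁ ι₂ F)).comp (MulEquiv.prodUnits.symm.toMonoidHom)

theorem blockGL_coe (p : GL ι₁ F × GL ι₂ F) :
    (blockGL ι₁ ι₂ F p : Matrix (ι₁ ⊕ ι₂) (ι₁ ⊕ ι₂) F)
      = Matrix.fromBlocks (p.1 : Matrix ι₁ ι₁ F) 0 0 (p.2 : Matrix ι₂ ι₂ F) := rfl

theorem blockGL_mem (Q₁ : QuadraticForm F (ι₁ → F)) (Q₂ : QuadraticForm F (ι₂ → F))
    (p : ↥(Cfsg.isometryGroup F ⇑Q₁) × ↥(Cfsg.isometryGroup F ⇑Q₂)) :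
    blockGL ι₁ ι₂ F (p.1.1, p.2.1) ∈ Cfsg.isometryGroup F ⇑(sumQF Q₁ Q₂) := by
  rw [mem_isometryGroup]
  intro u
  rw [blockGL_coe, Matrix.fromBlocks_mulVec, sumQF_apply, sumQF_apply]
  have e1 := mem_isometryGroup.1 p.1.2 (u ∘ Sum.inl)
  have e2 := mem_isometryGroup.1 p.2.2 (u ∘ Sum.inr)
  simp only [Matrix.zero_mulVec, add_zero, zero_add]
  have h1 : (Sum.elim ((p.1.1 : Matrix ι₁ ι₁ F) *ᵥ (u ∘ Sum.inl)) ((p.2.1 : Matrix ι₂ ι₂ F) *ᵥ (u ∘ Sum.inr))) ∘ Sum.inl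
      = (p.1.1 : Matrix ι₁ ι₁ F) *ᵥ (u ∘ Sum.inl) := rfl
  have h2 : (Sum.elim ((p.1.1 : Matrix ι₁ ι₁ F) *ᵥ (u ∘ Sum.inl)) ((p.2.1 : Matrix ι₂ ι₂ F) *ᵥ (u ∘ Sum.inr))) ∘ Sum.inr
      = (p.2.1 : Matrix ι₂ ι₂ F) *ᵥ (u ∘ Sum.inr) := rfl
  rw [h1, h2, e1, e2]

/-- block diagonal embedding of isometry groups -/
noncomputable def blockIso (Q₁ : QuadraticForm F (ι₁ → F)) (Q₂ : QuadraticForm F (ι₂ → F)) :
    ↥(Cfsg.isometryGroup F ⇑Q₁) × ↥(Cfsg.isometryGroup F ⇑Q₂) →*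
      ↥(Cfsg.isometryGroup F ⇑(sumQF Q₁ Q₂)) :=
  ((blockGL ι₁ ι₂ F).comp ((Subgroup.subtype _).prodMap (Subgroup.subtype _))).codRestrict _
    (fun p => blockGL_mem Q₁ Q₂ p)

theorem blockIso_coe (Q₁ : QuadraticForm F (ι₁ → F)) (Q₂ : QuadraticForm F (ι₂ → F))
    (p : ↥(Cfsg.isometryGroup F ⇑Q₁) × ↥(Cfsg.isometryGroup F ⇑Q₂)) :
    ((blockIso Q₁ Q₂ p : GL (ι₁ ⊕ ι₂) F) : Matrix (ι₁ ⊕ ι₂) (ι₁ ⊕ ι₂) F)
      = Matrix.fromBlocks ((p.1 : GL ι₁ F) : Matrix ι₁ ι₁ F) 0 0 ((p.2 : GL ι₂ F) : Matrix ι₂ ι₂ F) :=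
  rfl

theorem blockIso_mem_Omega (Q₁ : QuadraticForm F (ι₁ → F)) (Q₂ : QuadraticForm F (ι₂ → F))
    {g₁ : ↥(Cfsg.isometryGroup F ⇑Q₁)} {g₂ : ↥(Cfsg.isometryGroup F ⇑Q₂)}
    (h₁ : g₁ ∈ Cfsg.Omega F ⇑Q₁) (h₂ : g₂ ∈ Cfsg.Omega F ⇑Q₂) :
    blockIso Q₁ Q₂ (g₁, g₂) ∈ Cfsg.Omega F ⇑(sumQF Q₁ Q₂) := by
  have e : blockIso Q₁ Q₂ (g₁, g₂) = (blockIso Q₁ Q₂).comp (MonoidHom.inl _ _) g₁ *
      (blockIso Q₁ Q₂).comp (MonoidHom.inr _ _) g₂ := by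
    simp only [MonoidHom.comp_apply, MonoidHom.inl_apply, MonoidHom.inr_apply, ← map_mul]
    simp
  rw [e]
  exact mul_mem (map_mem_commutator _ h₁) (map_mem_commutator _ h₂)

end Cfsg.Agent.Lib.Helper44
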