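import Cfsg.Agent.Lib.Helper44.OrthConj
import Cfsg.Agent.Lib.Helper94.SympWrap
import Cfsg.Agent.Lib.Helper45.Symp
import Cfsg.Agent.S0749
import Cfsg.Agent.S0752

set_option autoImplicit false

namespace Cfsg.Agent.Lib.Helper44

open LinearMap LinearMap.BilinForm Module

/-- non-degenerate alternating spaces of the same dimension are isometric -/
theorem exists_alt_isometry {F W W' : Type*} [Field F] [AddCommGroup W] [Module F W]
    [FiniteDimensional F W] [AddCommGroup W'] [Module F W'] [FiniteDimensional F W']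
    (B : LinearMap.BilinForm F W) (B' : LinearMap.BilinForm F W') (hB : B.Nondegenerate)
    (hB' : B'.Nondegenerate) (hA : B.IsAlt) (hA' : B'.IsAlt) (h : finrank F W = finrank F W') :
    ∃ φ : W ≃ₗ[F] W', ∀ x y, B' (φ x) (φ y) = B x y := by
  classical
  obtain ⟨m, k, b, h1, h2, h3, h4⟩ := Cfsg.Agent.S0752.result B hA
  obtain ⟨m', k', b', h1', h2', h3', h4'⟩ := Cfsg.Agent.S0752.result B' hA'
  have hk : k = 0 := by
    by_contra hne
    have j : Fin k := ⟨0, Nat.pos_of_ne_zero hne⟩
    exact b.ne_zero (Sum.inr j) (hB.1 _ (h4 j))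
  have hk' : k' = 0 := by
    by_contra hne
    have j : Fin k' := ⟨0, Nat.pos_of_ne_zero hne⟩
    exact b'.ne_zero (Sum.inr j) (hB'.1 _ (h4' j))
  subst hk hk'
  have hm : m = m' := by
    have e1 := Module.finrank_eq_card_basis b
    have e2 := Module.finrank_eq_card_basis b'
    rw [h, e2] at e1
    simp at e1
    omega
  subst hm
  refine ⟨b.equiv b' (Equiv.refl _), ?_⟩
  have key : B'.comp (b.equiv b' (Equiv.refl _)).toLinearMap (b.equiv b' (Equiv.refl _)).toLinearMap
      = B := by
    apply LinearMap.BilinForm.ext_basis b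
    intro a c
    rw [LinearMap.BilinForm.comp_apply]
    simp only [LinearEquiv.coe_coe, Basis.equiv_apply, Equiv.refl_apply]
    rcases a with (a | a) | a
    · rcases c with (c | c) | c
      · rw [h2, h2']
      · rw [h1, h1']
      · exact c.elim0
    · rcases c with (c | c) | c
      · rw [← hA.neg_eq, ← hA'.neg_eq, h1, h1']
      · rw [h3, h3']
      · exact c.elim0
    · exact a.elim0
  intro x y
  rw [← key]
  rfl

section

variable {F V : Type*} [Field F] [AddCommGroup V] [Module F V] [FiniteDimensional F V]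
  (β : LinearMap.BilinForm F V) (hβ : β.Nondegenerate) (halt : β.IsAlt)

include hβ halt in
theorem exists_Psi (n n' U U' : Module.End F V) (hnn : n * n = n) (hnn' : n' * n' = n')
    (hdn : ∀ x y, β (n x) y = β x (n y)) (hdn' : ∀ x y, β (n' x) y = β x (n' y))
    (hU1 : U * U' = 1) (hU2 : U' * U = 1) (hUn : U * n = n' * U) :
    ∃ Ψ : Module.End F V, n' * Ψ = Ψ ∧ Ψ * n = Ψ ∧ (∀ x y, β (Ψ x) (Ψ y) = β (n x) (n y)) ∧
      ∀ y, ∃ z, n z = z ∧ Ψ z = n' y := by
  have hfix : ∀ (n : Module.End F V), n * n = n → ∀ x ∈ LinearMap.range n, n x = x := by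
    rintro n hnn x ⟨y, rfl⟩
    exact LinearMap.congr_fun hnn y
  have hnd : ∀ (n : Module.End F V), n * n = n → (∀ x y, β (n x) y = β x (n y)) →
      (β.restrict (LinearMap.range n)).Nondegenerate := by
    intro n hnn hdn
    constructor
    · intro x hx
      apply Subtype.ext
      apply hβ.1
      intro v
      have := hx ⟨n v, LinearMap.mem_range_self n v⟩
      rw [← hfix n hnn x.1 x.2, hdn]
      exact this
    · intro y hy
      apply Subtype.ext
      apply hβ.2
      intro v
      have := hy ⟨n v, LinearMap.mem_range_self n v⟩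
      rw [← hfix n hnn y.1 y.2, ← hdn]
      exact this
  have haltr : ∀ (W : Submodule F V), (β.restrict W).IsAlt := fun W x => halt x.1
  let Ue : V ≃ₗ[F] V := LinearEquiv.ofLinearMap U U' hU1 hU2
  have hmap : (LinearMap.range n).map (Ue : V →ₗ[F] V) = LinearMap.range n' := by
    ext y
    constructor
    · rintro ⟨x, ⟨w, rfl⟩, rfl⟩
      exact ⟨U w, (LinearMap.congr_fun hUn w).symm⟩
    · rintro ⟨w, rfl⟩
      refine ⟨n (U' w), LinearMap.mem_range_self _ _, ?_⟩
      have h1 : U * n * U' = n' := by rw [hUn, mul_assoc, hU1, mul_one]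
      exact LinearMap.congr_fun h1 w
  have hfr : finrank F (LinearMap.range n) = finrank F (LinearMap.range n') := by
    rw [← hmap]
    exact (LinearEquiv.finrank_map_eq Ue _).symm
  obtain ⟨ψ, hψ⟩ := exists_alt_isometry _ _ (hnd n hnn hdn) (hnd n' hnn' hdn') (haltr _) (haltr _) hfr
  refine ⟨(LinearMap.range n').subtype ∘ₗ ψ.toLinearMap ∘ₗ n.rangeRestrict, ?_, ?_, ?_, ?_⟩
  · ext v
    exact hfix n' hnn' _ (ψ (n.rangeRestrict v)).2
  · ext v
    have h1 : n.rangeRestrict (n v) = n.rangeRestrict v := by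
      apply Subtype.ext
      exact LinearMap.congr_fun hnn v
    change ((ψ (n.rangeRestrict (n v)) : LinearMap.range n') : V) = ψ (n.rangeRestrict v)
    rw [h1]
  · intro x y
    exact hψ (n.rangeRestrict x) (n.rangeRestrict y)
  · intro y
    refine ⟨(ψ.symm ⟨n' y, LinearMap.mem_range_self _ _⟩ : LinearMap.range n), hfix n hnn _ (ψ.symm _).2, ?_⟩
    have h1 : n.rangeRestrict ((ψ.symm ⟨n' y, LinearMap.mem_range_self _ _⟩ : LinearMap.range n) : V)
        = ψ.symm ⟨n' y, LinearMap.mem_range_self _ _⟩ := by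
      apply Subtype.ext
      exact hfix n hnn _ (ψ.symm _).2
    change ((ψ (n.rangeRestrict _) : LinearMap.range n') : V) = n' y
    rw [h1, LinearEquiv.apply_symm_apply]

include hβ halt in
theorem alt_conj [Finite F] (A A' P P' : Module.End F V)
    (hA : ∀ x y, β (A x) (A y) = β x y) (hA' : ∀ x y, β (A' x) (A' y) = β x y) (j k : ℕ)
    (hjk : (j : F) * (k : F) = 1) (hAk : A ^ k = 1)
    (hP1 : P * P' = 1) (hP2 : P' * P = 1) (hPA : P * A = A' * P) :
    ∃ g : V ≃ₗ[F] V, (∀ x y, β (g x) (g y) = β x y) ∧ ∀ v, g (A v) = A' (g v) := by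
  have hε : ∀ x y, β x y = (-1) * β y x := by
    intro x y
    rw [neg_one_mul, halt.neg_eq]
  have hεε : (-1 : F) * (-1) = 1 := by ring
  have hAk' : A' ^ k = 1 := pow_eq_one_of_semiconj hAk hP1 hPA
  obtain ⟨U, U', hU1, hU2, hU3, hU4⟩ := exists_partial_isometry β hβ (-1) hε hεε
    A A' P P' hA hA' j k hjk hAk hP1 hP2 hPA
  have hjk' := natCast_mul_end (V := V) hjk
  have hC : (A * A) ^ k = 1 := by
    rw [(Commute.refl A).mul_pow, hAk, one_mul]
  have hC' : (A' * A') ^ k = 1 := by
    rw [(Commute.refl A').mul_pow, hAk', one_mul]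
  have hUC : U * (A * A) = (A' * A') * U := by
    rw [← mul_assoc, hU3, mul_assoc, hU3, mul_assoc]
  have hUe : U * avg j k (A * A) = avg j k (A' * A') * U := semiconj_avg hUC
  have hUf : U * avg j k A = avg j k A' * U := semiconj_avg hU3
  have hAn := mul_avg_sub hjk' hAk
  have hAn' := mul_avg_sub hjk' hAk'
  have hde := selfAdj_avg β hβ (-1) hε hεε (C := A * A) (by intro x y; simp [hA]) hjk hC
  have hde' := selfAdj_avg β hβ (-1) hε hεε (C := A' * A') (by intro x y; simp [hA']) hjk hC'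
  have hdf := selfAdj_avg β hβ (-1) hε hεε hA hjk hAk
  have hdf' := selfAdj_avg β hβ (-1) hε hεε hA' hjk hAk'
  have hAf : A * avg j k A = avg j k A := mul_avg hAk
  have hAf' : A' * avg j k A' = avg j k A' := mul_avg hAk'
  have hAe : Commute A (avg j k (A * A)) := commute_avg ((Commute.refl A).mul_right (Commute.refl A))
  have hAfc : Commute A (avg j k A) := commute_avg (Commute.refl A)
  have hfe : avg j k A * avg j k (A * A) = avg j k A :=
    mul_avg_of_fixed hjk' (by rw [← mul_assoc, avg_mul hAk, avg_mul hAk])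
  have hef : avg j k (A * A) * avg j k A = avg j k A :=
    avg_mul_of_fixed hjk' (by rw [mul_assoc, hAf, hAf])
  have hfe' : avg j k A' * avg j k (A' * A') = avg j k A' :=
    mul_avg_of_fixed hjk' (by rw [← mul_assoc, avg_mul hAk', avg_mul hAk'])
  have hef' : avg j k (A' * A') * avg j k A' = avg j k A' :=
    avg_mul_of_fixed hjk' (by rw [mul_assoc, hAf', hAf'])
  have hee : avg j k (A * A) * avg j k (A * A) = avg j k (A * A) := avg_idem hjk' hC
  have hee' : avg j k (A' * A') * avg j k (A' * A') = avg j k (A' * A') := avg_idem hjk' hC'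
  have hff : avg j k A * avg j k A = avg j k A := avg_idem hjk' hAk
  have hff' : avg j k A' * avg j k A' = avg j k A' := avg_idem hjk' hAk'
  generalize avg j k (A * A) = e at *
  generalize avg j k (A' * A') = e' at *
  generalize avg j k A = f at *
  generalize avg j k A' = f' at *
  have hnn : (e - f) * (e - f) = e - f := by
    rw [mul_sub, sub_mul, sub_mul, hee, hfe, hef, hff]; abel
  have hnn' : (e' - f') * (e' - f') = e' - f' := by
    rw [mul_sub, sub_mul, sub_mul, hee', hfe', hef', hff']; abel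
  have hdn : ∀ x y, β ((e - f) x) y = β x ((e - f) y) := by
    intro x y
    simp [hde, hdf]
  have hdn' : ∀ x y, β ((e' - f') x) y = β x ((e' - f') y) := by
    intro x y
    simp [hde', hdf']
  have hUn : U * (e - f) = (e' - f') * U := by
    rw [mul_sub, sub_mul, hUe, hUf]
  obtain ⟨Ψ, hΨ1, hΨ2, hΨ3, hΨ4⟩ := exists_Psi β hβ halt (e - f) (e' - f') U U' hnn hnn' hdn hdn'
    hU1 hU2 hUn
  have hen : (1 - e) * (e - f) = 0 := by
    rw [sub_mul, one_mul, mul_sub, hee, hef]; abel
  have hne : (e - f) * (1 - e) = 0 := by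
    rw [mul_sub, mul_one, sub_mul, hee, hfe]; abel
  have hfn : f * (e - f) = 0 := by
    rw [mul_sub, hfe, hff, sub_self]
  have hf1e : f * (1 - e) = 0 := by
    rw [mul_sub, mul_one, hfe, sub_self]
  have h1e : (1 - e) * (1 - e) = 1 - e := by
    rw [mul_sub, mul_one, sub_mul, one_mul, hee]; abel
  have hd1e : ∀ x y, β ((1 - e) x) y = β x ((1 - e) y) := by
    intro x y
    simp [hde]
  have hd1f : ∀ x y, β ((1 - f) x) y = β x ((1 - f) y) := by
    intro x y
    simp [hdf]
  have h1f : (1 - f) * (1 - f) = 1 - f := by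
    rw [mul_sub, mul_one, sub_mul, one_mul, hff]; abel
  -- cross terms
  have hcross : ∀ x y, β (U ((1 - e) x)) (Ψ y) = 0 := by
    intro x y
    have h1 : Ψ = U * ((e - f) * (U' * Ψ)) := by
      rw [← mul_assoc, hUn, mul_assoc, ← mul_assoc U, hU1, one_mul, hΨ1]
    have h2 : Ψ y = U ((e - f) (U' (Ψ y))) := by
      conv_lhs => rw [h1]
      rfl
    rw [h2, hU4, hd1e, ← Module.End.mul_apply, hen]
    simp
  have hcross' : ∀ x y, β ((1 - e) x) ((e - f) y) = 0 := by
    intro x y
    rw [hd1e, ← Module.End.mul_apply, hen]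
    simp
  have hφ : ∀ x y, β ((U * (1 - e) + Ψ) x) ((U * (1 - e) + Ψ) y) = β ((1 - f) x) ((1 - f) y) := by
    intro x y
    have h1 : (1 - f : Module.End F V) = (1 - e) + (e - f) := by abel
    rw [h1]
    simp only [LinearMap.add_apply, Module.End.mul_apply, map_add]
    have h2 : β (Ψ x) (U ((1 - e) y)) = 0 := by rw [hε, hcross, mul_zero]
    have h3 : β ((e - f) x) ((1 - e) y) = 0 := by rw [hε, hcross', mul_zero]
    rw [hU4, hcross, h2, hΨ3, hcross', h3]
  have hfixf : ∀ x, f x = 0 → (1 - f) x = x := by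
    intro x hx
    simp [hx]
  have hinj : Function.Injective ((U * (1 - e) + Ψ).domRestrict (LinearMap.ker f)) := by
    rw [← LinearMap.ker_eq_bot, LinearMap.ker_eq_bot']
    intro y hy
    apply Subtype.ext
    apply hβ.1
    intro v
    have h1 := hφ y.1 v
    have h2 : (U * (1 - e) + Ψ) y.1 = 0 := hy
    rw [h2, hd1f, ← Module.End.mul_apply, h1f, ← hd1f, hfixf y.1 y.2] at h1
    simpa using h1.symm
  obtain ⟨g, hg1, hg2⟩ := Cfsg.Agent.S0749.result β hβ halt (LinearMap.ker f) _
    (LinearEquiv.ofInjective _ hinj) (by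
      intro x x'
      rw [LinearEquiv.ofInjective_apply, LinearEquiv.ofInjective_apply]
      have := hφ x.1 x'.1
      rw [hfixf x.1 x.2, hfixf x'.1 x'.2] at this
      exact this)
  have hg2' : ∀ x, f x = 0 → g x = (U * (1 - e) + Ψ) x := by
    intro x hx
    have := hg2 ⟨x, hx⟩
    rw [LinearEquiv.ofInjective_apply] at this
    exact this
  have hf1 : ∀ v, f ((1 - f) v) = 0 := by
    intro v
    have := LinearMap.congr_fun hff v
    simp only [Module.End.mul_apply] at this
    simp [this]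
  refine ⟨g, hg1, ?_⟩
  apply intertwine_of_partial β hβ g hg1 hAf hAf' hff hdf hdf'
  · intro v
    have h1 : f (A ((1 - f) v)) = 0 := by
      rw [← Module.End.mul_apply, ← hAfc.eq, Module.End.mul_apply, hf1, map_zero]
    rw [hg2' _ h1, hg2' _ (hf1 v)]
    have h2 : (U * (1 - e) + Ψ) * A = A' * (U * (1 - e) + Ψ) := by
      have h3 : Ψ * A = -Ψ := by
        calc Ψ * A = Ψ * ((e - f) * A) := by rw [← mul_assoc, hΨ2]
          _ = Ψ * (A * (e - f)) := by rw [(hAe.sub_right hAfc).eq]
          _ = -Ψ := by rw [hAn, mul_neg, hΨ2]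
      have h4 : A' * Ψ = -Ψ := by
        calc A' * Ψ = A' * (e' - f') * Ψ := by rw [mul_assoc, hΨ1]
          _ = -Ψ := by rw [hAn', neg_mul, hΨ1]
      have h5 : U * (1 - e) * A = A' * (U * (1 - e)) := by
        rw [mul_assoc, ← ((Commute.one_right A).sub_right hAe).eq, ← mul_assoc, hU3, mul_assoc]
      rw [add_mul, mul_add, h3, h4, h5]
    exact LinearMap.congr_fun h2 _
  · intro y
    obtain ⟨z, hz1, hz2⟩ := hΨ4 y
    refine ⟨(1 - e) (U' y) + z, ?_⟩
    have h1 : f ((1 - e) (U' y) + z) = 0 := by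
      have h7 : f ((1 - e) (U' y)) = 0 := by
        rw [← Module.End.mul_apply, hf1e]; simp
      have h8 : f z = 0 := by
        rw [← hz1, ← Module.End.mul_apply, hfn]; simp
      rw [map_add, h7, h8, add_zero]
    rw [hfixf _ h1, hg2' _ h1]
    have h2 : (1 - e) z = 0 := by
      rw [← hz1, ← Module.End.mul_apply, hen]; simp
    have h3 : Ψ ((1 - e) (U' y)) = 0 := by
      rw [← hΨ2, Module.End.mul_apply, ← Module.End.mul_apply (e - f), hne]; simp
    have h4 : U ((1 - e) (U' y)) = (1 - e') y := by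
      have h5 : U * (1 - e) * U' = 1 - e' := by
        rw [mul_sub, mul_one, hUe, sub_mul, mul_assoc, hU1, mul_one]
      rw [← h5]; rfl
    have h6 : (1 - f' : Module.End F V) = (1 - e') + (e' - f') := by abel
    rw [h6, LinearMap.add_apply, LinearMap.add_apply, Module.End.mul_apply, map_add, map_add, map_add,
      h2, ← Module.End.mul_apply (1 - e), h1e, h3, hz2, h4]
    simp

end

theorem sp_isConj_iff_gl {F : Type*} [Field F] [Fintype F] {p : ℕ} [Fact p.Prime] [CharP F p]
    {m : ℕ} (A B : Matrix.symplecticGroup (Fin m) F) (hA : (orderOf A).Coprime p) :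
    IsConj A B ↔ IsConj (A : Matrix (Fin m ⊕ Fin m) (Fin m ⊕ Fin m) F)
      (B : Matrix (Fin m ⊕ Fin m) (Fin m ⊕ Fin m) F) := by
  constructor
  · intro h
    exact (Matrix.symplecticGroup (Fin m) F).subtype.map_isConj h
  · rintro ⟨c, hc⟩
    obtain ⟨j, -, hj⟩ := Nat.exists_mul_mod_eq_one_of_coprime hA (Fact.out : p.Prime).one_lt
    have hjk : (j : F) * (orderOf A : F) = 1 := by
      rw [mul_comm, ← Nat.cast_mul, CharP.cast_eq_mod F p, hj, Nat.cast_one]
    have hB : ∀ u v, Cfsg.Agent.Lib.Helper94.sympB m F u v =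
        u ⬝ᵥ (Matrix.J (Fin m) F).mulVec v := by
      intro u v
      simp [Cfsg.Agent.Lib.Helper94.sympB, Matrix.toBilin'_apply']
    let T := Matrix.toLinAlgEquiv' (R := F) (n := Fin m ⊕ Fin m)
    obtain ⟨g, hg1, hg2⟩ := alt_conj (Cfsg.Agent.Lib.Helper94.sympB m F)
      (Cfsg.Agent.Lib.Helper94.sympB_nondegenerate m) (Cfsg.Agent.Lib.Helper94.sympB_isAlt m)
      (T (A : Matrix (Fin m ⊕ Fin m) (Fin m ⊕ Fin m) F))
      (T (B : Matrix (Fin m ⊕ Fin m) (Fin m ⊕ Fin m) F))
      (T (c : Matrix (Fin m ⊕ Fin m) (Fin m ⊕ Fin m) F))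
      (T ((c⁻¹ : (Matrix (Fin m ⊕ Fin m) (Fin m ⊕ Fin m) F)ˣ) :
        Matrix (Fin m ⊕ Fin m) (Fin m ⊕ Fin m) F))
      (fun u v => by
        rw [Matrix.toLinAlgEquiv'_apply, Matrix.toLinAlgEquiv'_apply, hB, hB]
        exact (Cfsg.Agent.Lib.Helper45.mem_symplecticGroup_iff_form _).1 A.2 u v)
      (fun u v => by
        rw [Matrix.toLinAlgEquiv'_apply, Matrix.toLinAlgEquiv'_apply, hB, hB]
        exact (Cfsg.Agent.Lib.Helper45.mem_symplecticGroup_iff_form _).1 B.2 u v)
      j (orderOf A) hjk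
      (by
        rw [← map_pow, ← SubmonoidClass.coe_pow, pow_orderOf_eq_one]
        simp)
      (by rw [← map_mul, Units.mul_inv, map_one])
      (by rw [← map_mul, Units.inv_mul, map_one])
      (by rw [← map_mul, ← map_mul, hc.eq])
    have hG : ∀ u, (T.symm g.toLinearMap).mulVec u = g u := by
      intro u
      rw [← Matrix.toLinAlgEquiv'_apply]
      change T (T.symm g.toLinearMap) u = g u
      rw [AlgEquiv.apply_symm_apply]
      rfl
    have hmem : T.symm g.toLinearMap ∈ Matrix.symplecticGroup (Fin m) F := by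
      rw [Cfsg.Agent.Lib.Helper45.mem_symplecticGroup_iff_form]
      intro u v
      rw [hG, hG, ← hB, ← hB, hg1]
    refine isConj_iff.2 ⟨⟨_, hmem⟩, ?_⟩
    rw [mul_inv_eq_iff_eq_mul]
    apply Subtype.ext
    apply T.injective
    change T (T.symm g.toLinearMap * (A : Matrix (Fin m ⊕ Fin m) (Fin m ⊕ Fin m) F)) =
      T ((B : Matrix (Fin m ⊕ Fin m) (Fin m ⊕ Fin m) F) * T.symm g.toLinearMap)
    rw [map_mul, map_mul, AlgEquiv.apply_symm_apply]
    apply LinearMap.ext
    intro v
    exact hg2 v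

end Cfsg.Agent.Lib.Helper44
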