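import Cfsg.Agent.Lib.Helper44.Simil
import Cfsg.Agent.Lib.Helper44.Sign
import Cfsg.Agent.Lib.Helper44.StdForms

set_option autoImplicit false

namespace Cfsg.Agent.Lib.Helper44

open QuadraticMap Module Matrix

universe u

variable {F K : Type u} [Field F] [Field K] {ι : Type} [Fintype ι] [DecidableEq ι]

theorem toMatrix'_polarBilin (Q : QuadraticForm F (ι → F)) :
    LinearMap.BilinForm.toMatrix' (polarBilin Q)
      = Matrix.of (fun i j => polarBilin Q (Pi.basisFun F ι i) (Pi.basisFun F ι j)) := by
  ext i j
  rw [LinearMap.BilinForm.toMatrix'_apply]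
  simp

/-- base change of a similarity -/
theorem similarity_map (φ : F →+* K) (h2 : (2 : K) ≠ 0) (QF : QuadraticForm F (ι → F))
    (QK : QuadraticForm K (ι → K))
    (hJ : Matrix.of (fun i j => polarBilin QK (Pi.basisFun K ι i) (Pi.basisFun K ι j))
      = (Matrix.of (fun i j => polarBilin QF (Pi.basisFun F ι i) (Pi.basisFun F ι j))).map φ)
    (g : Matrix ι ι F) (l : F) (hg : ∀ v, QF (g *ᵥ v) = l * QF v) (w : ι → K) :
    QK (g.map φ *ᵥ w) = φ l * QK w := by
  have hpol : ∀ x y, polar QF (g *ᵥ x) (g *ᵥ y) = l * polar QF x y := by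
    intro x y
    simp only [polar, ← Matrix.mulVec_add, hg]
    ring
  have h1 : LinearMap.BilinForm.comp (polarBilin QF) (Matrix.toLin' g) (Matrix.toLin' g)
      = l • polarBilin QF := by
    apply LinearMap.ext
    intro x
    apply LinearMap.ext
    intro y
    rw [LinearMap.BilinForm.comp_apply, Matrix.toLin'_apply, Matrix.toLin'_apply,
      polarBilin_apply_apply, LinearMap.smul_apply, LinearMap.smul_apply, polarBilin_apply_apply,
      smul_eq_mul]
    exact hpol _ _
  have h3 := congrArg (fun B => (LinearMap.BilinForm.toMatrix' B).map φ) h1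
  simp only [LinearMap.BilinForm.toMatrix'_comp, LinearMap.toMatrix'_toLin', map_smul] at h3
  rw [Matrix.map_mul, Matrix.map_mul, Matrix.transpose_map, toMatrix'_polarBilin, ← hJ,
    ← toMatrix'_polarBilin] at h3
  have h4 : (l • LinearMap.BilinForm.toMatrix' (polarBilin QF)).map φ
      = φ l • LinearMap.BilinForm.toMatrix' (polarBilin QK) := by
    rw [toMatrix'_polarBilin, toMatrix'_polarBilin, hJ]
    ext i j
    simp
  rw [toMatrix'_polarBilin QF] at h4
  have h5 : LinearMap.BilinForm.comp (polarBilin QK) (Matrix.toLin' (g.map φ))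
      (Matrix.toLin' (g.map φ)) = φ l • polarBilin QK := by
    apply LinearMap.BilinForm.toMatrix'.injective
    rw [LinearMap.BilinForm.toMatrix'_comp, LinearMap.toMatrix'_toLin', map_smul, h3, ← h4]
  have h6 := congrArg (fun B => B w w) h5
  simp only [LinearMap.BilinForm.comp_apply, Matrix.toLin'_apply, polarBilin_apply_apply,
    LinearMap.smul_apply, smul_eq_mul, polar_self] at h6
  apply mul_left_cancel₀ h2
  linear_combination h6

/-- elements of the base field are squares in a quadratic extension of a finite field -/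
theorem isSquare_algebraMap_of_finrank_two [Fintype F] [Algebra F K] (h2 : (2 : F) ≠ 0)
    (hK : finrank F K = 2) (x : F) : IsSquare (algebraMap F K x) := by
  by_cases hx : x = 0
  · rw [hx, map_zero]; exact IsSquare.zero
  have : Module.Finite F K := Module.finite_of_finrank_pos (by omega)
  have : Finite K := Module.finite_of_finite F
  have : Fintype K := Fintype.ofFinite K
  have hcard : Fintype.card K = Fintype.card F ^ 2 := by
    rw [← hK]; exact Module.card_eq_pow_finrank
  have h2K : (2 : K) ≠ 0 := by
    have := (map_ne_zero (algebraMap F K)).2 h2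
    rwa [map_ofNat] at this
  have hq : Odd (Fintype.card F) := by
    rw [← Nat.not_even_iff_odd]
    intro he
    rw [Nat.even_iff, ← FiniteField.even_card_iff_char_two] at he
    have : CharP F 2 := by rw [← he]; exact ringChar.charP F
    exact h2 (CharTwo.two_eq_zero)
  rw [FiniteField.isSquare_iff (ringChar_ne_two_of_two_ne_zero h2K)
    ((map_ne_zero (algebraMap F K)).2 hx), hcard]
  obtain ⟨k, hk⟩ := hq
  have e : Fintype.card F ^ 2 / 2 = (Fintype.card F - 1) * (k + 1) := by
    rw [hk]
    have : (2 * k + 1) ^ 2 = 2 * (2 * k * (k + 1)) + 1 := by ring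
    rw [this]
    have h3 : 2 * k + 1 - 1 = 2 * k := by omega
    rw [h3]
    omega
  rw [e, pow_mul, ← map_pow, FiniteField.pow_card_sub_one_eq_one x hx, map_one, one_pow]

/-- a quadratic extension exists -/
theorem exists_quadratic_extension {a b : F}
    (hab : ∀ z₁ z₂ : F, z₁ ^ 2 + a * z₁ * z₂ + b * z₂ ^ 2 = 0 → z₁ = 0 ∧ z₂ = 0) :
    ∃ (K : Type u) (_ : Field K) (_ : Algebra F K), finrank F K = 2 := by
  set f : Polynomial F := Polynomial.X ^ 2 + Polynomial.C a * Polynomial.X + Polynomial.C b with hf
  have hdeg : f.natDegree = 2 := by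
    rw [hf]; compute_degree!
  have hmonic : f.Monic := by
    rw [hf]; monicity!
  have hirr : Irreducible f := by
    rw [hmonic.irreducible_iff_roots_eq_zero_of_degree_le_three (by omega) (by omega)]
    rw [Multiset.eq_zero_iff_forall_notMem]
    intro r hr
    rw [Polynomial.mem_roots hmonic.ne_zero, Polynomial.IsRoot.def, hf] at hr
    simp only [Polynomial.eval_add, Polynomial.eval_pow, Polynomial.eval_X, Polynomial.eval_mul,
      Polynomial.eval_C] at hr
    have := hab r 1 (by linear_combination hr)
    exact one_ne_zero this.2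
  have : Fact (Irreducible f) := ⟨hirr⟩
  refine ⟨AdjoinRoot f, inferInstance, inferInstance, ?_⟩
  rw [(AdjoinRoot.powerBasis hmonic.ne_zero).finrank, AdjoinRoot.powerBasis_dim, hdeg]

end Cfsg.Agent.Lib.Helper44
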