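import Cfsg.Agent.Lib.Helper44.HypTransfer
import Cfsg.Agent.Lib.Helper44.BaseChange

set_option autoImplicit false

namespace Cfsg.Agent.Lib.Helper44

open QuadraticMap Module Matrix

universe u

section split

variable {K : Type u} [Field K]

/-- the isometry from the split minus form to the plus form -/
noncomputable def minusT (m : ℕ) (θ₁ θ₂ : K) :
    ((Fin m ⊕ Fin m) ⊕ Fin 2 → K) →ₗ[K] (Fin (m + 1) ⊕ Fin (m + 1) → K) :=
  LinearMap.pi (Sum.elim
    (Fin.lastCases (LinearMap.proj (Sum.inr 0) - θ₁ • LinearMap.proj (Sum.inr 1))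
      (fun i => LinearMap.proj (Sum.inl (Sum.inl i))))
    (Fin.lastCases (LinearMap.proj (Sum.inr 0) - θ₂ • LinearMap.proj (Sum.inr 1))
      (fun i => LinearMap.proj (Sum.inl (Sum.inr i)))))

theorem minusT_inl_castSucc (m : ℕ) (θ₁ θ₂ : K) (v : (Fin m ⊕ Fin m) ⊕ Fin 2 → K) (i : Fin m) :
    minusT m θ₁ θ₂ v (Sum.inl i.castSucc) = v (Sum.inl (Sum.inl i)) := by
  simp [minusT]

theorem minusT_inr_castSucc (m : ℕ) (θ₁ θ₂ : K) (v : (Fin m ⊕ Fin m) ⊕ Fin 2 → K) (i : Fin m) :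
    minusT m θ₁ θ₂ v (Sum.inr i.castSucc) = v (Sum.inl (Sum.inr i)) := by
  simp [minusT]

theorem minusT_inl_last (m : ℕ) (θ₁ θ₂ : K) (v : (Fin m ⊕ Fin m) ⊕ Fin 2 → K) :
    minusT m θ₁ θ₂ v (Sum.inl (Fin.last m)) = v (Sum.inr 0) - θ₁ * v (Sum.inr 1) := by
  simp [minusT]

theorem minusT_inr_last (m : ℕ) (θ₁ θ₂ : K) (v : (Fin m ⊕ Fin m) ⊕ Fin 2 → K) :
    minusT m θ₁ θ₂ v (Sum.inr (Fin.last m)) = v (Sum.inr 0) - θ₂ * v (Sum.inr 1) := by
  simp [minusT]

theorem plusQF_minusT (m : ℕ) {θ₁ θ₂ a b : K} (h1 : θ₁ + θ₂ = -a) (h2 : θ₁ * θ₂ = b)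
    (v : (Fin m ⊕ Fin m) ⊕ Fin 2 → K) :
    plusQF (m + 1) K (minusT m θ₁ θ₂ v) = minusQF m K a b v := by
  rw [plusQF_apply, minusQF_apply, Fin.sum_univ_castSucc]
  simp only [minusT_inl_castSucc, minusT_inr_castSucc, minusT_inl_last, minusT_inr_last]
  have ha : a = -(θ₁ + θ₂) := by rw [h1]; ring
  rw [ha, ← h2]
  ring

theorem minusT_injective (m : ℕ) {θ₁ θ₂ : K} (h : θ₁ ≠ θ₂) :
    Function.Injective (minusT m θ₁ θ₂) := by
  rw [← LinearMap.ker_eq_bot, LinearMap.ker_eq_bot']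
  intro v hv
  have e1 := fun i => congrFun hv (Sum.inl (Fin.castSucc i))
  have e2 := fun i => congrFun hv (Sum.inr (Fin.castSucc i))
  have e3 := congrFun hv (Sum.inl (Fin.last m))
  have e4 := congrFun hv (Sum.inr (Fin.last m))
  simp only [minusT_inl_castSucc, minusT_inr_castSucc, minusT_inl_last, minusT_inr_last,
    Pi.zero_apply] at e1 e2 e3 e4
  have h1 : v (Sum.inr 1) = 0 := by
    have : (θ₁ - θ₂) * v (Sum.inr 1) = 0 := by linear_combination e4 - e3
    rcases mul_eq_zero.1 this with h' | h'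
    · exact absurd (sub_eq_zero.1 h') h
    · exact h'
  have h0 : v (Sum.inr 0) = 0 := by
    rw [h1] at e3; simpa using e3
  ext k
  rcases k with (i | i) | i
  · exact e1 i
  · exact e2 i
  · fin_cases i
    · exact h0
    · exact h1

theorem minus_card (m : ℕ) : Fintype.card ((Fin m ⊕ Fin m) ⊕ Fin 2) = 2 * (m + 1) := by
  simp only [Fintype.card_sum, Fintype.card_fin]; omega

/-- class preserving similarities of the split minus form -/
theorem split_minus_preserves_iff [Fintype K] (h2 : (2 : K) ≠ 0) (m : ℕ) {a b d : K}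
    (hd : a ^ 2 - 4 * b = d * d) (hd0 : d ≠ 0)
    (g : ↥(Cfsg.Geo.quadSimilarityGroup ⇑(minusQF m K a b))) :
    Cfsg.PreservesSingularClasses ⇑(minusQF m K a b)
      ((g : GL ((Fin m ⊕ Fin m) ⊕ Fin 2) K) : Matrix ((Fin m ⊕ Fin m) ⊕ Fin 2) ((Fin m ⊕ Fin m) ⊕ Fin 2) K) ↔
    ((g : GL ((Fin m ⊕ Fin m) ⊕ Fin 2) K) : Matrix ((Fin m ⊕ Fin m) ⊕ Fin 2) ((Fin m ⊕ Fin m) ⊕ Fin 2) K).det
      = (multF (minusQF m K a b) g : K) ^ (m + 1) := by
  have hne : (-a + d) / 2 ≠ (-a - d) / 2 := by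
    intro h
    apply hd0
    field_simp at h
    have h3 : 2 * d = 0 := by linear_combination h
    rcases mul_eq_zero.1 h3 with h' | h'
    · exact absurd h' h2
    · exact h'
  let Te := (minusT m ((-a + d) / 2) ((-a - d) / 2)).linearEquivOfInjective
    (minusT_injective m hne) (by
      rw [Module.finrank_fintype_fun_eq_card, Module.finrank_fintype_fun_eq_card, minus_card,
        plus_card])
  exact preserves_iff_of_plus h2 (minusQF m K a b) (m + 1) (by omega) (minus_card m) Te (by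
    intro v
    rw [LinearMap.linearEquivOfInjective_apply]
    apply plusQF_minusT
    · field_simp; ring
    · field_simp
      linear_combination hd) g

end split

section descent

variable {F : Type u} [Field F]

theorem minusQF_gram' (m : ℕ) (a c : F) :
    Matrix.of (fun i j => polarBilin (minusQF m F a c) (Pi.basisFun F ((Fin m ⊕ Fin m) ⊕ Fin 2) i)
      (Pi.basisFun F ((Fin m ⊕ Fin m) ⊕ Fin 2) j))
      = Matrix.fromBlocks (Matrix.fromBlocks (0 : Matrix (Fin m) (Fin m) F) 1 1 0) 0 0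
        !![2, a; a, 2 * c] := by
  ext i j
  simp only [Pi.basisFun_apply, polarBilin_apply_apply, Matrix.of_apply]
  rcases i with (i | i) | i <;> rcases j with (j | j) | j
  · rw [minusQF_polar_single_inl]; simp
  · rw [minusQF_polar_single_inl]; simp [Matrix.one_apply, Pi.single_apply, eq_comm]
  · rw [minusQF_polar_single_inl]; simp
  · rw [minusQF_polar_single_inr]; simp [Matrix.one_apply, Pi.single_apply, eq_comm]
  · rw [minusQF_polar_single_inr]; simp
  · rw [minusQF_polar_single_inr]; simp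
  · fin_cases i
    · simp only [Fin.zero_eta]; rw [minusQF_polar_single_zero]; simp
    · simp only [Fin.mk_one]; rw [minusQF_polar_single_one]; simp
  · fin_cases i
    · simp only [Fin.zero_eta]; rw [minusQF_polar_single_zero]; simp
    · simp only [Fin.mk_one]; rw [minusQF_polar_single_one]; simp
  · fin_cases i <;> fin_cases j
    · simp only [Fin.zero_eta]; rw [minusQF_polar_single_zero]; simp
    · simp only [Fin.zero_eta, Fin.mk_one]; rw [minusQF_polar_single_zero]; simp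
    · simp only [Fin.zero_eta, Fin.mk_one]; rw [minusQF_polar_single_one]; simp
    · simp only [Fin.mk_one]; rw [minusQF_polar_single_one]; simp

theorem minus_gram_map {K : Type u} [Field K] (φ : F →+* K) (m : ℕ) (a b : F) :
    Matrix.of (fun i j => polarBilin (minusQF m K (φ a) (φ b))
        (Pi.basisFun K ((Fin m ⊕ Fin m) ⊕ Fin 2) i) (Pi.basisFun K ((Fin m ⊕ Fin m) ⊕ Fin 2) j))
      = (Matrix.of (fun i j => polarBilin (minusQF m F a b)
        (Pi.basisFun F ((Fin m ⊕ Fin m) ⊕ Fin 2) i)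
        (Pi.basisFun F ((Fin m ⊕ Fin m) ⊕ Fin 2) j))).map φ := by
  rw [minusQF_gram', minusQF_gram', Matrix.fromBlocks_map, Matrix.fromBlocks_map]
  congr 1
  · congr 1 <;> ext i j <;> simp [Matrix.one_apply, apply_ite φ]
  · ext i j; simp
  · ext i j; simp
  · ext i j
    fin_cases i <;> fin_cases j <;> simp [map_ofNat]

theorem minus_preserves_iff_aux [Fintype F] (h2 : (2 : F) ≠ 0) (m : ℕ) {a b : F}
    (hab : ∀ z₁ z₂ : F, z₁ ^ 2 + a * z₁ * z₂ + b * z₂ ^ 2 = 0 → z₁ = 0 ∧ z₂ = 0)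
    (g : ↥(Cfsg.Geo.quadSimilarityGroup ⇑(minusQF m F a b)))
    (K : Type u) [Field K] [Algebra F K] (hK : finrank F K = 2) :
    Cfsg.PreservesSingularClasses (Cfsg.quadFormMinus m K (algebraMap F K a) (algebraMap F K b))
      (((g : GL ((Fin m ⊕ Fin m) ⊕ Fin 2) F) : Matrix ((Fin m ⊕ Fin m) ⊕ Fin 2) ((Fin m ⊕ Fin m) ⊕ Fin 2) F).map (algebraMap F K)) ↔
    ((g : GL ((Fin m ⊕ Fin m) ⊕ Fin 2) F) : Matrix ((Fin m ⊕ Fin m) ⊕ Fin 2) ((Fin m ⊕ Fin m) ⊕ Fin 2) F).det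
      = (multF (minusQF m F a b) g : F) ^ (m + 1) := by
  have : Module.Finite F K := Module.finite_of_finrank_pos (by omega)
  have : Finite K := Module.finite_of_finite F
  have : Fintype K := Fintype.ofFinite K
  have h2K : (2 : K) ≠ 0 := by
    have := (map_ne_zero (algebraMap F K)).2 h2
    rwa [map_ofNat] at this
  obtain ⟨d, hd⟩ := isSquare_algebraMap_of_finrank_two h2 hK (a ^ 2 - 4 * b)
  have hd0 : d ≠ 0 := by
    rintro rfl
    rw [mul_zero, map_eq_zero] at hd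
    exact disc_ne_zero_of_anisotropic F hab hd
  have hd' : (algebraMap F K a) ^ 2 - 4 * (algebraMap F K b) = d * d := by
    rw [← hd]; simp [map_ofNat]
  have hsim := similarity_map (algebraMap F K) h2K (minusQF m F a b)
    (minusQF m K (algebraMap F K a) (algebraMap F K b)) (minus_gram_map _ m a b)
    ((g : GL ((Fin m ⊕ Fin m) ⊕ Fin 2) F) : Matrix ((Fin m ⊕ Fin m) ⊕ Fin 2) ((Fin m ⊕ Fin m) ⊕ Fin 2) F) (multF (minusQF m F a b) g : F)
    (multF_spec _ g)
  let g' : ↥(Cfsg.Geo.quadSimilarityGroup ⇑(minusQF m K (algebraMap F K a) (algebraMap F K b))) :=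
    ⟨Matrix.GeneralLinearGroup.map (algebraMap F K) (g : GL ((Fin m ⊕ Fin m) ⊕ Fin 2) F),
      Units.map (algebraMap F K).toMonoidHom (multF (minusQF m F a b) g), hsim⟩
  have hex : ∃ v, minusQF m K (algebraMap F K a) (algebraMap F K b) v ≠ 0 := by
    refine ⟨Pi.single (Sum.inr 0) 1, ?_⟩
    rw [minusQF_apply]
    simp
  have hmult : multF (minusQF m K (algebraMap F K a) (algebraMap F K b)) g'
      = Units.map (algebraMap F K).toMonoidHom (multF (minusQF m F a b) g) :=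
    multF_unique hex g' _ hsim
  have key := split_minus_preserves_iff h2K m hd' hd0 g'
  rw [hmult] at key
  have hdet : ((g' : GL ((Fin m ⊕ Fin m) ⊕ Fin 2) K) : Matrix ((Fin m ⊕ Fin m) ⊕ Fin 2) ((Fin m ⊕ Fin m) ⊕ Fin 2) K).det
      = algebraMap F K ((g : GL ((Fin m ⊕ Fin m) ⊕ Fin 2) F) : Matrix ((Fin m ⊕ Fin m) ⊕ Fin 2) ((Fin m ⊕ Fin m) ⊕ Fin 2) F).det := by
    rw [RingHom.map_det]; rfl
  rw [hdet] at key
  have e : ((g' : GL ((Fin m ⊕ Fin m) ⊕ Fin 2) K) : Matrix ((Fin m ⊕ Fin m) ⊕ Fin 2) ((Fin m ⊕ Fin m) ⊕ Fin 2) K)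
      = ((g : GL ((Fin m ⊕ Fin m) ⊕ Fin 2) F) : Matrix ((Fin m ⊕ Fin m) ⊕ Fin 2) ((Fin m ⊕ Fin m) ⊕ Fin 2) F).map (algebraMap F K) := rfl
  rw [e] at key
  rw [← minusQF_coe, key]
  have e2 : ((Units.map (algebraMap F K).toMonoidHom (multF (minusQF m F a b) g) : Kˣ) : K)
      = algebraMap F K (multF (minusQF m F a b) g : F) := rfl
  rw [e2, ← map_pow]
  exact (algebraMap F K).injective.eq_iff

theorem minus_preserves_iff [Fintype F] (h2 : (2 : F) ≠ 0) (m : ℕ) {a b : F}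
    (hab : ∀ z₁ z₂ : F, z₁ ^ 2 + a * z₁ * z₂ + b * z₂ ^ 2 = 0 → z₁ = 0 ∧ z₂ = 0)
    (g : ↥(Cfsg.Geo.quadSimilarityGroup ⇑(minusQF m F a b))) :
    Cfsg.PreservesSingularClassesMinus m a b
      ((g : GL ((Fin m ⊕ Fin m) ⊕ Fin 2) F) : Matrix ((Fin m ⊕ Fin m) ⊕ Fin 2) ((Fin m ⊕ Fin m) ⊕ Fin 2) F) ↔
    ((g : GL ((Fin m ⊕ Fin m) ⊕ Fin 2) F) : Matrix ((Fin m ⊕ Fin m) ⊕ Fin 2) ((Fin m ⊕ Fin m) ⊕ Fin 2) F).det
      = (multF (minusQF m F a b) g : F) ^ (m + 1) := by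
  constructor
  · rintro ⟨K, _, _, hK, h⟩
    exact (minus_preserves_iff_aux h2 m hab g K hK).1 h
  · intro h
    obtain ⟨K, _, _, hK⟩ := exists_quadratic_extension hab
    exact ⟨K, _, _, hK, (minus_preserves_iff_aux h2 m hab g K hK).2 h⟩

end descent

end Cfsg.Agent.Lib.Helper44
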