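import Cfsg.Agent.Lib.Helper44.Avg

set_option autoImplicit false

namespace Cfsg.Agent.Lib.Helper44

open LinearMap LinearMap.BilinForm

section

variable {F V : Type*} [Field F] [AddCommGroup V] [Module F V] [FiniteDimensional F V]
  (β : LinearMap.BilinForm F V) (hβ : β.Nondegenerate)

/-- the adjoint as a map of the endomorphism ring -/
noncomputable def adj (X : Module.End F V) : Module.End F V := β.leftAdjointOfNondegenerate hβ X

theorem adj_apply (X : Module.End F V) (x y : V) : β (adj β hβ X x) y = β x (X y) :=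
  isAdjointPairLeftAdjointOfNondegenerate β hβ X x y

theorem eq_adj {X Y : Module.End F V} (h : ∀ x y, β (Y x) y = β x (X y)) : Y = adj β hβ X :=
  (isAdjointPair_iff_eq_of_nondegenerate β hβ Y X).1 h

theorem isDagger_adj (ε : F) (hε : ∀ x y, β x y = ε * β y x) (hεε : ε * ε = 1) :
    IsDagger (adj β hβ) where
  add := by
    intro X Y
    symm
    apply eq_adj
    intro x y
    simp [adj_apply]
  mul := by
    intro X Y
    symm
    apply eq_adj
    intro x y
    simp [adj_apply]
  one := by
    symm
    apply eq_adj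
    intro x y
    simp
  invol := by
    intro X
    symm
    apply eq_adj
    intro x y
    rw [hε x, adj_apply, hε y, ← mul_assoc, hεε, one_mul]

include hβ in
theorem eq_of_forall_bilin {x x' : V} (h : ∀ y, β x y = β x' y) : x = x' := by
  have := hβ.1 (x - x') (fun y => by rw [map_sub, LinearMap.sub_apply, h, sub_self])
  exact sub_eq_zero.1 this

theorem adj_mul_self_of_isometry {A : Module.End F V} (hA : ∀ x y, β (A x) (A y) = β x y) :
    adj β hβ A * A = 1 := by
  ext x
  apply eq_of_forall_bilin β hβ
  intro y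
  simp [adj_apply, hA]

theorem natCast_mul_end {j k : ℕ} (hjk : (j : F) * (k : F) = 1) :
    (j : Module.End F V) * (k : Module.End F V) = 1 := by
  have := congrArg (algebraMap F (Module.End F V)) hjk
  simpa using this

include hβ in
theorem selfAdj_avg (ε : F) (hε : ∀ x y, β x y = ε * β y x) (hεε : ε * ε = 1)
    {C : Module.End F V} (hC : ∀ x y, β (C x) (C y) = β x y)
    {j k : ℕ} (hjk : (j : F) * (k : F) = 1) (hCk : C ^ k = 1) (x y : V) :
    β (avg j k C x) y = β x (avg j k C y) := by
  have h1 := dagger_avg (isDagger_adj β hβ ε hε hεε) (natCast_mul_end hjk) hCk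
    (adj_mul_self_of_isometry β hβ hC)
  rw [← adj_apply β hβ, h1]

include hβ in
theorem exists_partial_isometry [Finite F] (ε : F) (hε : ∀ x y, β x y = ε * β y x)
    (hεε : ε * ε = 1) (A A' P P' : Module.End F V) (hA : ∀ x y, β (A x) (A y) = β x y)
    (hA' : ∀ x y, β (A' x) (A' y) = β x y)
    (j k : ℕ) (hjk : (j : F) * (k : F) = 1) (hAk : A ^ k = 1)
    (hP1 : P * P' = 1) (hP2 : P' * P = 1) (hPA : P * A = A' * P) :
    ∃ U U' : Module.End F V, U * U' = 1 ∧ U' * U = 1 ∧ U * A = A' * U ∧
      ∀ x y, β (U ((1 - avg j k (A * A)) x)) (U y) = β ((1 - avg j k (A * A)) x) y := by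
  haveI : Finite V := Module.finite_of_finite F
  haveI : Finite (Module.End F V) := DFunLike.finite _
  have hd := isDagger_adj β hβ ε hε hεε
  have h1 := adj_mul_self_of_isometry β hβ hA
  have h1' := adj_mul_self_of_isometry β hβ hA'
  have h2 : A * adj β hβ A = 1 := mul_eq_one_comm.1 h1
  have hjk' := natCast_mul_end (V := V) hjk
  have hC : (A * A) ^ k = 1 := by
    rw [(Commute.refl A).mul_pow, hAk, one_mul]
  have hde : adj β hβ (avg j k (A * A)) = avg j k (A * A) := by
    apply dagger_avg hd hjk' hC
    apply adj_mul_self_of_isometry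
    intro x y
    simp [hA]
  obtain ⟨U, U', hU1, hU2, hU3, hU4⟩ := conj_solve hd A A' P P' (1 - avg j k (A * A)) h1 h2 h1'
    hP1 hP2 hPA (by rw [hd.sub, hd.one, hde])
    (by
      rw [mul_sub, mul_one, sub_mul, one_mul, avg_idem hjk' hC]; abel)
    (fun c hc => (Commute.one_right c).sub_right (commute_avg (hc.mul_right hc)))
    (isUnit_avg hjk' hAk h1 h2)
  refine ⟨U, U', hU1, hU2, hU3, fun x y => ?_⟩
  rw [← adj_apply β hβ]
  have := LinearMap.congr_fun hU4 x
  simp only [Module.End.mul_apply] at this
  rw [this]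

include hβ in
theorem intertwine_of_partial {A A' e e' : Module.End F V} (g : V ≃ₗ[F] V)
    (hg : ∀ x y, β (g x) (g y) = β x y)
    (hAe : A * e = e) (hAe' : A' * e' = e') (hee : e * e = e)
    (hde : ∀ x y, β (e x) y = β x (e y)) (hde' : ∀ x y, β (e' x) y = β x (e' y))
    (h1 : ∀ v, g (A ((1 - e) v)) = A' (g ((1 - e) v)))
    (h2 : ∀ y, ∃ w, (1 - e') y = g ((1 - e) w)) (v : V) :
    g (A v) = A' (g v) := by
  have h3 : (1 - e') (g (e v)) = 0 := by
    apply eq_of_forall_bilin β hβ
    intro y
    have h4 : β ((1 - e') (g (e v))) y = β (g (e v)) ((1 - e') y) := by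
      simp [hde']
    obtain ⟨w, hw⟩ := h2 y
    rw [h4, hw, hg, hde]
    have h5 : e ((1 - e) w) = 0 := by
      have := LinearMap.congr_fun hee w
      simp only [Module.End.mul_apply] at this
      simp [this]
    rw [h5]; simp
  have h4 : e' (g (e v)) = g (e v) := by
    simp only [LinearMap.sub_apply, Module.End.one_apply] at h3
    exact (sub_eq_zero.1 h3).symm
  have h5 : A' (g (e v)) = g (e v) := by
    have := LinearMap.congr_fun hAe' (g (e v))
    simp only [Module.End.mul_apply] at this
    rw [h4] at this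
    exact this
  have h6 : A (e v) = e v := LinearMap.congr_fun hAe v
  have h7 : v = (1 - e) v + e v := by simp
  conv_lhs => rw [h7]
  conv_rhs => rw [h7]
  rw [map_add, map_add, map_add, map_add, h1, h6, h5]

end

end Cfsg.Agent.Lib.Helper44
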