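import Cfsg.Agent.Lib.Helper44.Dagger

set_option autoImplicit false

namespace Cfsg.Agent.Lib.Helper44

namespace IsDagger

variable {M : Type*} [Ring M] {d : M → M} (hd : IsDagger d)

include hd

theorem natCast (n : ℕ) : d (n : M) = n := by
  induction n with
  | zero => simpa using hd.zero
  | succ n ih => rw [Nat.cast_succ, hd.add, ih, hd.one]

theorem pow (x : M) (n : ℕ) : d (x ^ n) = (d x) ^ n := by
  induction n with
  | zero => simpa using hd.one
  | succ n ih => rw [pow_succ, hd.mul, ih, pow_succ']

theorem sum {ι : Type*} (s : Finset ι) (f : ι → M) : d (∑ i ∈ s, f i) = ∑ i ∈ s, d (f i) := by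
  classical
  induction s using Finset.induction_on with
  | empty => simpa using hd.zero
  | insert a s ha ih => rw [Finset.sum_insert ha, Finset.sum_insert ha, hd.add, ih]

end IsDagger

/-- the averaging element `j * (1 + C + ... + C^(k-1))` -/
def avg {M : Type*} [Ring M] (j k : ℕ) (C : M) : M := (j : M) * ∑ i ∈ Finset.range k, C ^ i

section avg

variable {M : Type*} [Ring M] {j k : ℕ} {C : M}

theorem avg_mul_of_fixed (hjk : (j : M) * (k : M) = 1) {y : M} (hy : C * y = y) :
    avg j k C * y = y := by
  have h1 : ∀ i : ℕ, C ^ i * y = y := by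
    intro i
    induction i with
    | zero => simp
    | succ i ih => rw [pow_succ, mul_assoc, hy, ih]
  unfold avg
  rw [mul_assoc, Finset.sum_mul, Finset.sum_congr rfl (fun i _ => h1 i), Finset.sum_const,
    Finset.card_range, nsmul_eq_mul, ← mul_assoc, hjk, one_mul]

theorem mul_avg_of_fixed (hjk : (j : M) * (k : M) = 1) {y : M} (hy : y * C = y) :
    y * avg j k C = y := by
  have h1 : ∀ i : ℕ, y * C ^ i = y := by
    intro i
    induction i with
    | zero => simp
    | succ i ih => rw [pow_succ', ← mul_assoc, hy, ih]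
  unfold avg
  rw [← mul_assoc, (Nat.cast_commute j y).eq.symm, mul_assoc, Finset.mul_sum,
    Finset.sum_congr rfl (fun i _ => h1 i), Finset.sum_const,
    Finset.card_range, nsmul_eq_mul, ← mul_assoc, hjk, one_mul]

theorem mul_avg (hC : C ^ k = 1) : C * avg j k C = avg j k C := by
  unfold avg
  rw [← mul_assoc, (Nat.cast_commute j C).eq.symm, mul_assoc]
  congr 1
  rw [Finset.mul_sum]
  have h1 := Finset.sum_range_succ (fun i => C ^ i) k
  have h2 := Finset.sum_range_succ' (fun i => C ^ i) k
  rw [h1] at h2
  simp only [hC, pow_zero] at h2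
  have h3 := add_right_cancel h2
  rw [h3]
  exact Finset.sum_congr rfl fun i _ => (pow_succ' C i).symm

theorem commute_avg {c : M} (hc : Commute c C) : Commute c (avg j k C) := by
  unfold avg
  exact (Nat.cast_commute j c).symm.mul_right (Commute.sum_right _ _ _ fun i _ => hc.pow_right i)

theorem avg_mul (hC : C ^ k = 1) : avg j k C * C = avg j k C := by
  rw [← (commute_avg (Commute.refl C)).eq, mul_avg hC]

theorem avg_idem (hjk : (j : M) * (k : M) = 1) (hC : C ^ k = 1) :
    avg j k C * avg j k C = avg j k C :=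
  avg_mul_of_fixed hjk (mul_avg hC)

theorem semiconj_avg {U C' : M} (h : U * C = C' * U) : U * avg j k C = avg j k C' * U := by
  have h1 : ∀ i : ℕ, U * C ^ i = C' ^ i * U := by
    intro i
    exact (SemiconjBy.pow_right (show SemiconjBy U C C' from h) i).eq
  unfold avg
  rw [← mul_assoc, (Nat.cast_commute j U).eq.symm, mul_assoc, mul_assoc, Finset.mul_sum,
    Finset.sum_mul, Finset.sum_congr rfl (fun i _ => h1 i)]

theorem dagger_avg {d : M → M} (hd : IsDagger d) (hjk : (j : M) * (k : M) = 1)
    (hC : C ^ k = 1) (h1 : d C * C = 1) : d (avg j k C) = avg j k C := by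
  have h2 : d (avg j k C) = avg j k (d C) := by
    unfold avg
    rw [hd.mul, hd.natCast, hd.sum, (Nat.cast_commute j _).eq]
    congr 1
    exact Finset.sum_congr rfl fun i _ => hd.pow C i
  have h3 : d C * avg j k C = avg j k C := by
    calc d C * avg j k C = d C * (C * avg j k C) := by rw [mul_avg hC]
      _ = avg j k C := by rw [← mul_assoc, h1, one_mul]
  have h4 : d (avg j k C) * avg j k C = avg j k C := by
    rw [h2]; exact avg_mul_of_fixed hjk h3
  calc d (avg j k C) = d (d (avg j k C) * avg j k C) := by rw [h4]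
    _ = d (avg j k C) * avg j k C := by rw [hd.mul, hd.invol]
    _ = avg j k C := h4

/-- the unit condition needed for `conj_solve` -/
theorem isUnit_avg [Finite M] {A A' : M} (hjk : (j : M) * (k : M) = 1) (hA : A ^ k = 1)
    (h1 : A' * A = 1) (h2 : A * A' = 1) :
    IsUnit ((A - A') * (A - A') * (1 - avg j k (A * A)) + (1 - (1 - avg j k (A * A)))) := by
  set e := avg j k (A * A) with he
  have hC : (A * A) ^ k = 1 := by
    rw [(Commute.refl A).mul_pow, hA, one_mul]
  have hee : e * e = e := avg_idem hjk hC
  have hθA : Commute (A - A') (A * A) := by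
    have h3 : Commute (A - A') A := by
      change (A - A') * A = A * (A - A')
      rw [sub_mul, mul_sub, h1, h2]
    exact h3.mul_right h3
  have hθe : Commute (A - A') e := commute_avg hθA
  have hAθ : ∀ x, (A - A') * x = 0 → e * x = x := by
    intro x hx
    apply avg_mul_of_fixed hjk
    have h3 : A * ((A - A') * x) = A * A * x - x := by
      rw [← mul_assoc, mul_sub, h2, sub_mul, one_mul]
    rw [hx, mul_zero] at h3
    exact (sub_eq_zero.1 h3.symm)
  apply IsLeftRegular.isUnit_of_finite
  rw [isLeftRegular_iff_right_eq_zero_of_mul]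
  intro x hx
  rw [sub_sub_cancel] at hx
  have h3 : e * x = 0 := by
    have h4 : e * (((A - A') * (A - A') * (1 - e) + e) * x) = e * x := by
      have h5 : e * ((A - A') * (A - A') * (1 - e) + e) = e := by
        have h6 : e * (1 - e) = 0 := by rw [mul_sub, mul_one, hee, sub_self]
        rw [mul_add, hee, ← mul_assoc, ← (hθe.mul_left hθe).eq, mul_assoc, h6, mul_zero, zero_add]
      rw [← mul_assoc, h5]
    rw [hx, mul_zero] at h4
    exact h4.symm
  have h4 : (A - A') * ((A - A') * x) = 0 := by
    have h5 : ((A - A') * (A - A') * (1 - e) + e) * x = (A - A') * ((A - A') * x) := by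
      have h6 : (1 - e) * x = x := by rw [sub_mul, one_mul, h3, sub_zero]
      rw [add_mul, h3, add_zero, mul_assoc, h6, mul_assoc]
    rw [← h5, hx]
  have h5 := hAθ _ h4
  rw [← mul_assoc, ← hθe.eq, mul_assoc, h3, mul_zero] at h5
  have h6 := hAθ _ h5.symm
  rw [← h6, h3]

theorem mul_avg_sq_of_odd {A : M} (hA : A ^ k = 1) (hk : Odd k) :
    A * avg j k (A * A) = avg j k (A * A) := by
  obtain ⟨l, hl⟩ := hk
  have hC : (A * A) ^ k = 1 := by
    rw [(Commute.refl A).mul_pow, hA, one_mul]
  have h1 : A = (A * A) ^ (l + 1) := by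
    rw [← pow_two, ← pow_mul, show 2 * (l + 1) = k + 1 by omega, pow_succ, hA, one_mul]
  have h2 : ∀ i : ℕ, (A * A) ^ i * avg j k (A * A) = avg j k (A * A) := by
    intro i
    induction i with
    | zero => simp
    | succ i ih => rw [pow_succ, mul_assoc, mul_avg hC, ih]
  calc A * avg j k (A * A) = (A * A) ^ (l + 1) * avg j k (A * A) := by rw [← h1]
    _ = _ := h2 _

/-- the `-1`-eigenprojection -/
theorem mul_avg_sub {A : M} (hjk : (j : M) * (k : M) = 1) (hA : A ^ k = 1) :
    A * (avg j k (A * A) - avg j k A) = -(avg j k (A * A) - avg j k A) := by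
  have hC : (A * A) ^ k = 1 := by
    rw [(Commute.refl A).mul_pow, hA, one_mul]
  set e := avg j k (A * A) with he
  set f := avg j k A with hf
  have h1 : A * f = f := mul_avg hA
  have h1' : f * A = f := avg_mul hA
  have h2 : A * A * e = e := mul_avg hC
  have h3 : f * e = f := mul_avg_of_fixed hjk (by rw [← mul_assoc, h1', h1'])
  have hff : f * f = f := avg_idem hjk hA
  have h4 : A * (A * (e - f) + (e - f)) = A * (e - f) + (e - f) := by
    rw [mul_add, ← mul_assoc, mul_sub (A * A), h2, mul_assoc, h1, h1]
    abel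
  have h5 := avg_mul_of_fixed (j := j) (k := k) hjk h4
  rw [← hf, mul_add, ← mul_assoc, h1', mul_sub, h3, hff, sub_self, add_zero] at h5
  exact eq_neg_of_add_eq_zero_left h5.symm

end avg

end Cfsg.Agent.Lib.Helper44
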