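import Cfsg.Agent.Lib.Helper44.Transport
import Cfsg.Prelude.Def_LieTypeDatum

set_option autoImplicit false

namespace Cfsg.Agent.Lib.Helper44

open Matrix

section general

variable {G : Type*} [Group G]

/-- restriction of automorphisms to a characteristic subgroup -/
def autRestrict (H : Subgroup G) [hH : H.Characteristic] : MulAut G →* MulAut H where
  toFun φ :=
    { toFun := fun x => ⟨φ x, Subgroup.characteristic_iff_le_comap.1 hH φ x.2⟩
      invFun := fun x => ⟨φ.symm x, Subgroup.characteristic_iff_le_comap.1 hH φ.symm x.2⟩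
      left_inv := fun x => by simp
      right_inv := fun x => by simp
      map_mul' := fun x y => by apply Subtype.ext; simp }
  map_one' := by ext x; rfl
  map_mul' φ ψ := by ext x; rfl

theorem autRestrict_apply (H : Subgroup G) [H.Characteristic] (φ : MulAut G) (x : H) :
    ((autRestrict H φ x : H) : G) = φ x := rfl

/-- induced automorphisms of the quotient by a characteristic subgroup -/
def autQuot (N : Subgroup G) [hN : N.Characteristic] : MulAut G →* MulAut (G ⧸ N) where
  toFun φ := QuotientGroup.congr N N φ (Subgroup.characteristic_iff_map_eq.1 hN φ)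
  map_one' := by
    ext x
    induction x using QuotientGroup.induction_on with
    | H x => rfl
  map_mul' φ ψ := by
    ext x
    induction x using QuotientGroup.induction_on with
    | H x => rfl

theorem autQuot_apply_mk (N : Subgroup G) [N.Characteristic] (φ : MulAut G) (x : G) :
    autQuot N φ (QuotientGroup.mk x) = QuotientGroup.mk (φ x) := rfl

/-- automorphisms induced on `G'/Z(G')` -/
def pcAut (G : Type*) [Group G] :
    MulAut G →* MulAut (commutator G ⧸ Subgroup.center (commutator G)) :=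
  (autQuot (Subgroup.center (commutator G))).comp (autRestrict (commutator G))

theorem pcAut_apply_mk (φ : MulAut G) (x : commutator G) :
    pcAut G φ (QuotientGroup.mk x) = QuotientGroup.mk (autRestrict (commutator G) φ x) := rfl

end general

universe u

variable {F : Type u} [Field F] {ι : Type} [Fintype ι] [DecidableEq ι]

theorem conj_mem_isometryGroup {Qf : (ι → F) → F} {g s : GL ι F}
    (hg : g ∈ Cfsg.Geo.quadSimilarityGroup Qf) (hs : s ∈ Cfsg.isometryGroup F Qf) :
    g * s * g⁻¹ ∈ Cfsg.isometryGroup F Qf := by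
  obtain ⟨c, hc⟩ := hg
  rw [mem_isometryGroup] at hs ⊢
  intro v
  have h1 : v = (g : Matrix ι ι F) *ᵥ (((g⁻¹ : GL ι F) : Matrix ι ι F) *ᵥ v) := by
    rw [Matrix.mulVec_mulVec, ← Units.val_mul, mul_inv_cancel]; simp
  conv_rhs => rw [h1, hc]
  rw [Units.val_mul, Units.val_mul, ← Matrix.mulVec_mulVec, ← Matrix.mulVec_mulVec, hc, hs]

theorem quadSimilarityGroup_le_normalizer (Qf : (ι → F) → F) :
    Cfsg.Geo.quadSimilarityGroup Qf ≤
      Subgroup.normalizer ((Cfsg.isometryGroup F Qf : Subgroup (GL ι F)) : Set (GL ι F)) := by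
  intro g hg
  rw [Subgroup.mem_normalizer_iff]
  intro s
  constructor
  · exact conj_mem_isometryGroup hg
  · intro hs
    have := conj_mem_isometryGroup (inv_mem hg) hs
    have e : g⁻¹ * (g * s * g⁻¹) * g⁻¹⁻¹ = s := by group
    rwa [e] at this

/-- The action of the similarity group on `PΩ` by conjugation. -/
noncomputable def conjPOmega (Qf : (ι → F) → F) :
    ↥(Cfsg.Geo.quadSimilarityGroup Qf) →* MulAut (Cfsg.POmega F Qf) :=
  (pcAut ↥(Cfsg.isometryGroup F Qf)).comp
    ((Subgroup.normalizerMonoidHom (Cfsg.isometryGroup F Qf)).comp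
      (Subgroup.inclusion (quadSimilarityGroup_le_normalizer Qf)))

theorem conjPOmega_apply_mk (Qf : (ι → F) → F) (g : ↥(Cfsg.Geo.quadSimilarityGroup Qf))
    (s s' : ↥(Cfsg.Omega F Qf))
    (h : ((s' : ↥(Cfsg.isometryGroup F Qf)) : GL ι F)
      = (g : GL ι F) * ((s : ↥(Cfsg.isometryGroup F Qf)) : GL ι F) * (g : GL ι F)⁻¹) :
    conjPOmega Qf g (QuotientGroup.mk s) = QuotientGroup.mk s' := by
  have : conjPOmega Qf g (QuotientGroup.mk s) = QuotientGroup.mk
      (autRestrict (commutator ↥(Cfsg.isometryGroup F Qf))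
        ((Subgroup.normalizerMonoidHom (Cfsg.isometryGroup F Qf))
          (Subgroup.inclusion (quadSimilarityGroup_le_normalizer Qf) g)) s) := rfl
  rw [this]
  congr 1
  apply Subtype.ext
  apply Subtype.ext
  rw [h]
  rfl

theorem exists_conj_Omega (Qf : (ι → F) → F) (g : ↥(Cfsg.Geo.quadSimilarityGroup Qf))
    (s : ↥(Cfsg.Omega F Qf)) : ∃ s' : ↥(Cfsg.Omega F Qf),
    ((s' : ↥(Cfsg.isometryGroup F Qf)) : GL ι F)
      = (g : GL ι F) * ((s : ↥(Cfsg.isometryGroup F Qf)) : GL ι F) * (g : GL ι F)⁻¹ :=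
  ⟨autRestrict (commutator ↥(Cfsg.isometryGroup F Qf))
        ((Subgroup.normalizerMonoidHom (Cfsg.isometryGroup F Qf))
          (Subgroup.inclusion (quadSimilarityGroup_le_normalizer Qf) g)) s, rfl⟩

theorem isInduced_iff (Qf : (ι → F) → F) (g : ↥(Cfsg.Geo.quadSimilarityGroup Qf))
    (β : Cfsg.POmega F Qf ≃* Cfsg.POmega F Qf) :
    Cfsg.IsInducedBySemilinearPOmega Qf (g : GL ι F) (RingEquiv.refl F) β ↔ β = conjPOmega Qf g := by
  have hmap : ∀ M : Matrix ι ι F, M.map ⇑(RingEquiv.refl F) = M := by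
    intro M; ext i j; simp
  constructor
  · intro h
    ext x
    induction x using QuotientGroup.induction_on with
    | H s =>
      obtain ⟨s', hs'⟩ := exists_conj_Omega Qf g s
      rw [conjPOmega_apply_mk Qf g s s' hs']
      apply h s s'
      rw [hmap, hs']
      simp
  · rintro rfl s s' h
    apply conjPOmega_apply_mk
    apply Units.ext
    rw [h, hmap]
    simp

/-- the subgroup of `Aut(PΩ)` generated by the automorphisms induced by the elements of a set of
similarities is the image of the closure -/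
theorem autSubgroupOf_eq_map (Qf : (ι → F) → F) (P : GL ι F → Prop)
    (hP : ∀ g, P g → g ∈ Cfsg.Geo.quadSimilarityGroup Qf) :
    Cfsg.autSubgroupOf (fun β : Cfsg.POmega F Qf ≃* Cfsg.POmega F Qf =>
      ∃ g : GL ι F, P g ∧ Cfsg.IsInducedBySemilinearPOmega Qf g (RingEquiv.refl F) β)
    = (Subgroup.closure {g : ↥(Cfsg.Geo.quadSimilarityGroup Qf) | P (g : GL ι F)}).map
        (conjPOmega Qf) := by
  rw [MonoidHom.map_closure, Cfsg.autSubgroupOf]
  congr 1
  ext β
  constructor
  · rintro ⟨g, hg, hβ⟩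
    exact ⟨⟨g, hP g hg⟩, hg, ((isInduced_iff Qf ⟨g, hP g hg⟩ β).1 hβ).symm⟩
  · rintro ⟨g, hg, rfl⟩
    exact ⟨g, hg, (isInduced_iff Qf g _).2 rfl⟩

theorem autSubgroupOf_eq_map_subgroup (Qf : (ι → F) → F) (S : Subgroup (GL ι F))
    (hS : S ≤ Cfsg.Geo.quadSimilarityGroup Qf) :
    Cfsg.autSubgroupOf (fun β : Cfsg.POmega F Qf ≃* Cfsg.POmega F Qf =>
      ∃ g : GL ι F, g ∈ S ∧ Cfsg.IsInducedBySemilinearPOmega Qf g (RingEquiv.refl F) β)
    = (S.subgroupOf (Cfsg.Geo.quadSimilarityGroup Qf)).map (conjPOmega Qf) := by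
  rw [autSubgroupOf_eq_map Qf (fun g => g ∈ S) (fun g hg => hS hg)]
  congr 1
  exact Subgroup.closure_eq (S.subgroupOf (Cfsg.Geo.quadSimilarityGroup Qf))

theorem isometryGroup_le_quadSimilarityGroup (Qf : (ι → F) → F) :
    Cfsg.isometryGroup F Qf ≤ Cfsg.Geo.quadSimilarityGroup Qf := by
  intro g hg
  exact ⟨1, fun v => by rw [mem_isometryGroup.1 hg v]; simp⟩

theorem pgoAut_eq (Qf : (ι → F) → F) : Cfsg.pgoAut F Qf = (conjPOmega Qf).range := by
  rw [Cfsg.pgoAut]
  have := autSubgroupOf_eq_map_subgroup Qf (Cfsg.Geo.quadSimilarityGroup Qf) le_rfl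
  rw [Subgroup.subgroupOf_self, ← MonoidHom.range_eq_map] at this
  exact this

theorem poAut_eq (Qf : (ι → F) → F) : Cfsg.poAut F Qf =
    ((Cfsg.isometryGroup F Qf).subgroupOf (Cfsg.Geo.quadSimilarityGroup Qf)).map (conjPOmega Qf) :=
  autSubgroupOf_eq_map_subgroup Qf _ (isometryGroup_le_quadSimilarityGroup Qf)

theorem psoAut_eq (Qf : (ι → F) → F) : Cfsg.psoAut F Qf =
    ((Cfsg.specialIsometryGL F Qf).subgroupOf (Cfsg.Geo.quadSimilarityGroup Qf)).map
      (conjPOmega Qf) :=
  autSubgroupOf_eq_map_subgroup Qf _ (inf_le_left.trans (isometryGroup_le_quadSimilarityGroup Qf))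

/-- `Ω` as a subgroup of `GL` -/
noncomputable def omegaGL' (Qf : (ι → F) → F) : Subgroup (GL ι F) :=
  (Cfsg.Omega F Qf).map (Cfsg.isometryGroup F Qf).subtype

theorem omegaGL'_le (Qf : (ι → F) → F) : omegaGL' Qf ≤ Cfsg.isometryGroup F Qf := by
  rintro _ ⟨s, -, rfl⟩
  exact s.2

theorem inn_eq (Qf : (ι → F) → F) : Cfsg.Inn (Cfsg.POmega F Qf) =
    ((omegaGL' Qf).subgroupOf (Cfsg.Geo.quadSimilarityGroup Qf)).map (conjPOmega Qf) := by
  ext β
  constructor
  · rintro ⟨x, rfl⟩
    induction x using QuotientGroup.induction_on with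
    | H s =>
      refine ⟨⟨((s : ↥(Cfsg.isometryGroup F Qf)) : GL ι F),
        isometryGroup_le_quadSimilarityGroup Qf (s : ↥(Cfsg.isometryGroup F Qf)).2⟩, ?_, ?_⟩
      · exact ⟨s, s.2, rfl⟩
      · ext y
        induction y using QuotientGroup.induction_on with
        | H t =>
          rw [conjPOmega_apply_mk Qf _ t (s * t * s⁻¹) (by simp)]
          rfl
  · rintro ⟨g, ⟨s, hs, hsg⟩, rfl⟩
    refine ⟨QuotientGroup.mk ⟨s, hs⟩, ?_⟩
    ext y
    induction y using QuotientGroup.induction_on with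
    | H t =>
      have hsg' : (g : GL ι F) = (s : GL ι F) := hsg.symm
      rw [conjPOmega_apply_mk Qf _ t (⟨s, hs⟩ * t * ⟨s, hs⟩⁻¹) (by
        rw [hsg']; simp)]
      rfl

end Cfsg.Agent.Lib.Helper44
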