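import Cfsg.Agent.Lib.Helper44.GroupQuot
import Cfsg.Agent.Lib.Helper73.DihedralRec

set_option autoImplicit false

namespace Cfsg.Agent.Lib.Helper44

variable {Γ : Type*} [Group Γ]

theorem units_prod_mul_self (x : ℤˣ × ℤˣ) : x * x = 1 := by
  obtain ⟨a, b⟩ := x
  rcases Int.units_eq_one_or a with rfl | rfl <;> rcases Int.units_eq_one_or b with rfl | rfl <;> rfl

theorem mul_mem_iff_of_relIndex_two {N K : Subgroup Γ} (h : N.relIndex K = 2) {x y : Γ}
    (hx : x ∈ K) (hy : y ∈ K) : x * y ∈ N ↔ (x ∈ N ↔ y ∈ N) := by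
  have := Subgroup.mul_mem_iff_of_index_two (H := N.subgroupOf K) h (a := ⟨x, hx⟩) (b := ⟨y, hy⟩)
  simpa [Subgroup.mem_subgroupOf] using this

theorem index_of_relIndex_ker (N : Subgroup Γ) (ψ : Γ →* ℤˣ × ℤˣ) (hψ : Function.Surjective ψ)
    (hNK : N ≤ ψ.ker) (k : ℕ) (hrel : N.relIndex ψ.ker = k) : N.index = k * 4 := by
  rw [← Subgroup.relIndex_mul_index hNK, hrel, Subgroup.index_ker,
    MonoidHom.range_eq_top.2 hψ]
  simp [Nat.card_eq_fintype_card]

theorem nonempty_mulEquiv_dihedral_of (N : Subgroup Γ) [N.Normal] (ψ : Γ →* ℤˣ × ℤˣ)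
    (hψ : Function.Surjective ψ) (hNK : N ≤ ψ.ker) (hrel : N.relIndex ψ.ker = 2) (R D : Γ)
    (hR : R * R = 1) (hψR : ψ R = (1, -1)) (hψD : (ψ D).1 = -1)
    (hRD : R * (D * R * D⁻¹) ∉ N) : Nonempty (Γ ⧸ N ≃* DihedralGroup 4) := by
  have hcard : Nat.card (Γ ⧸ N) = 2 * 4 := index_of_relIndex_ker N ψ hψ hNK 2 hrel
  have : Finite (Γ ⧸ N) := Nat.finite_of_card_ne_zero (by omega)
  have hRinv : R⁻¹ = R := inv_eq_of_mul_eq_one_left hR
  have hsq : ∀ x : Γ, x * x ∈ ψ.ker := fun x => by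
    rw [MonoidHom.mem_ker, map_mul]; exact units_prod_mul_self _
  have hP : R * (D * R * D⁻¹) ∈ ψ.ker := by
    rw [MonoidHom.mem_ker]
    simp only [map_mul, map_inv]
    rw [mul_comm (ψ D) (ψ R), mul_assoc (ψ R), mul_inv_cancel, mul_one]
    exact units_prod_mul_self _
  -- the rotation
  obtain ⟨a₀, ha1, ha2, ha3⟩ : ∃ a₀ : Γ, a₀ * a₀ ∉ N ∧ R * a₀ * R⁻¹ * a₀ ∈ N ∧ (ψ a₀).1 = -1 := by
    by_cases hD : D * D ∈ N
    · refine ⟨R * D, ?_, ?_, ?_⟩
      · have e : R * D * (R * D) = (R * (D * R * D⁻¹)) * (D * D) := by group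
        rw [e, mul_mem_iff_of_relIndex_two hrel hP (hsq D)]
        tauto
      · have e : R * (R * D) * R⁻¹ * (R * D) = (R * R) * (D * D) := by group
        rw [e, hR, one_mul]; exact hD
      · rw [map_mul, hψR]
        simp [hψD]
    · refine ⟨D, hD, ?_, hψD⟩
      have e : R * D * R⁻¹ * D = (R * (D * R * D⁻¹)) * (D * D) := by rw [hRinv]; group
      rw [e, mul_mem_iff_of_relIndex_two hrel hP (hsq D)]
      tauto
  refine Cfsg.Agent.Lib.Helper73.nonempty_mulEquiv_dihedralGroup 4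
    (QuotientGroup.mk a₀ : Γ ⧸ N) (QuotientGroup.mk R) ?_ ?_ ?_ ?_ hcard
  · have := orderOf_eq_prime_pow (p := 2) (n := 1) (x := (QuotientGroup.mk a₀ : Γ ⧸ N)) ?_ ?_
    · simpa using this
    · rw [pow_one, pow_two, ← QuotientGroup.mk_mul, QuotientGroup.eq_one_iff]
      exact ha1
    · have e : (QuotientGroup.mk a₀ : Γ ⧸ N) ^ 2 ^ (1 + 1)
          = QuotientGroup.mk ((a₀ * a₀) * (a₀ * a₀)) := by
        simp only [QuotientGroup.mk_mul]
        norm_num [pow_succ, mul_assoc]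
      rw [e, QuotientGroup.eq_one_iff, mul_mem_iff_of_relIndex_two hrel (hsq a₀) (hsq a₀)]
  · rw [pow_two, ← QuotientGroup.mk_mul, hR]; rfl
  · rw [eq_inv_iff_mul_eq_one, ← QuotientGroup.mk_inv, ← QuotientGroup.mk_mul,
      ← QuotientGroup.mk_mul, ← QuotientGroup.mk_mul, QuotientGroup.eq_one_iff]
    exact ha2
  · intro hmem
    obtain ⟨k, hk⟩ := Subgroup.mem_zpowers_iff.1 hmem
    rw [← QuotientGroup.mk_zpow, QuotientGroup.eq] at hk
    have h1 := hNK hk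
    rw [MonoidHom.mem_ker, map_mul, map_inv, map_zpow, inv_mul_eq_one] at h1
    rcases Int.even_or_odd k with ⟨j, hj⟩ | hodd
    · rw [hj, zpow_add, ← mul_zpow, units_prod_mul_self, one_zpow, hψR] at h1
      have := congrArg Prod.snd h1
      simp at this
    · have h2 := congrArg (MonoidHom.fst ℤˣ ℤˣ) h1
      rw [map_zpow, MonoidHom.coe_fst, ha3, hodd.neg_one_zpow, hψR] at h2
      simp at h2

end Cfsg.Agent.Lib.Helper44
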