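import Mathlib

set_option autoImplicit false

namespace Cfsg.Agent.Lib.Helper44

open Module Matrix

variable {F V : Type*} [Field F] [AddCommGroup V] [Module F V]

theorem toMatrix_eq_of {ι : Type*} [Fintype ι] [DecidableEq ι] (B : LinearMap.BilinForm F V)
    (b : Basis ι F V) : LinearMap.BilinForm.toMatrix b B = Matrix.of (fun i j => B (b i) (b j)) := by
  ext i j
  rw [LinearMap.BilinForm.toMatrix_apply]; rfl

/-- Gram determinants in two bases differ by a non-zero square. -/
theorem gram_det_basis_change {ι ι' : Type*} [Fintype ι] [DecidableEq ι] [Fintype ι']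
    [DecidableEq ι'] (B : LinearMap.BilinForm F V) (b : Basis ι F V) (c : Basis ι' F V) :
    ∃ d : F, d ≠ 0 ∧ (Matrix.of (fun i j => B (c i) (c j))).det
      = d ^ 2 * (Matrix.of (fun i j => B (b i) (b j))).det := by
  set e : ι' ≃ ι := c.indexEquiv b with he
  set c' : Basis ι F V := c.reindex e with hc'
  have h1 : Matrix.of (fun i j => B (c i) (c j))
      = (Matrix.of (fun i j => B (c' i) (c' j))).submatrix e e := by
    ext i j
    simp [hc']
  have h2 := LinearMap.BilinForm.toMatrix_mul_basis_toMatrix b c' B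
  rw [toMatrix_eq_of, toMatrix_eq_of] at h2
  refine ⟨(b.toMatrix c').det, ?_, ?_⟩
  · intro h0
    have h3 := congrArg Matrix.det (Basis.toMatrix_mul_toMatrix_flip b c')
    rw [Matrix.det_mul, h0] at h3
    simp at h3
  · rw [h1, Matrix.det_submatrix_equiv_self, ← h2, Matrix.det_mul, Matrix.det_mul,
      Matrix.det_transpose]
    ring

theorem isSquare_gram_det_iff {ι ι' : Type*} [Fintype ι] [DecidableEq ι] [Fintype ι']
    [DecidableEq ι'] (B : LinearMap.BilinForm F V) (b : Basis ι F V) (c : Basis ι' F V) :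
    IsSquare (Matrix.of (fun i j => B (c i) (c j))).det
      ↔ IsSquare (Matrix.of (fun i j => B (b i) (b j))).det := by
  obtain ⟨d, hd, h⟩ := gram_det_basis_change B b c
  rw [h]
  constructor
  · rintro ⟨x, hx⟩
    refine ⟨x / d, ?_⟩
    field_simp
    rw [← pow_two] at hx
    rw [← hx]; ring
  · rintro ⟨x, hx⟩
    exact ⟨d * x, by rw [hx]; ring⟩

theorem gram_det_ne_zero {ι : Type*} [Fintype ι] [DecidableEq ι] {B : LinearMap.BilinForm F V}
    (hB : B.Nondegenerate) (b : Basis ι F V) : (Matrix.of (fun i j => B (b i) (b j))).det ≠ 0 := by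
  rw [← toMatrix_eq_of]
  exact (LinearMap.BilinForm.nondegenerate_iff_det_ne_zero b).1 hB

theorem det_fromBlocks_zero_one_one_zero (m : Type*) [Fintype m] [DecidableEq m] :
    (Matrix.fromBlocks (0 : Matrix m m F) (1 : Matrix m m F) (1 : Matrix m m F)
      (0 : Matrix m m F)).det = (-1) ^ Fintype.card m := by
  have h1 : (Matrix.fromBlocks (1 : Matrix m m F) (1 : Matrix m m F) (0 : Matrix m m F)
      (1 : Matrix m m F)) * (Matrix.fromBlocks (0 : Matrix m m F) (1 : Matrix m m F)
      (1 : Matrix m m F) (0 : Matrix m m F))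
      = Matrix.fromBlocks (1 : Matrix m m F) (1 : Matrix m m F) (1 : Matrix m m F)
      (0 : Matrix m m F) := by
    simp [Matrix.fromBlocks_multiply]
  have h2 := congrArg Matrix.det h1
  rw [Matrix.det_mul, Matrix.det_fromBlocks_zero₂₁, Matrix.det_fromBlocks_one₁₁] at h2
  simpa [Matrix.det_neg] using h2

end Cfsg.Agent.Lib.Helper44
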