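import Mathlib

set_option autoImplicit false

namespace Cfsg.Agent.Lib.Helper44

variable {Γ A X : Type*} [Group Γ] [Group A] [Group X]

theorem exists_hom_of_range (c : Γ →* A) (ψ : Γ →* X) (hψ : Function.Surjective ψ)
    (hk : c.ker ≤ ψ.ker) :
    ∃ φ : ↥c.range →* X, Function.Surjective φ ∧ φ.ker = (ψ.ker.map c).subgroupOf c.range := by
  let φ : ↥c.range →* X := (QuotientGroup.lift c.ker ψ (fun x hx => hk hx)).comp
    (QuotientGroup.quotientKerEquivRange c).symm.toMonoidHom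
  have key : ∀ γ : Γ, φ ⟨c γ, γ, rfl⟩ = ψ γ := by
    intro γ
    have h1 : (QuotientGroup.quotientKerEquivRange c).symm ⟨c γ, γ, rfl⟩ = QuotientGroup.mk γ := by
      rw [MulEquiv.symm_apply_eq]; rfl
    change QuotientGroup.lift c.ker ψ (fun x hx => hk hx)
      ((QuotientGroup.quotientKerEquivRange c).symm ⟨c γ, γ, rfl⟩) = _
    rw [h1]; rfl
  refine ⟨φ, ?_, ?_⟩
  · intro x
    obtain ⟨γ, rfl⟩ := hψ x
    exact ⟨_, key γ⟩
  · ext ⟨_, γ, rfl⟩
    rw [MonoidHom.mem_ker, key, Subgroup.mem_subgroupOf]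
    constructor
    · intro h; exact ⟨γ, h, rfl⟩
    · rintro ⟨γ', hγ', h⟩
      have h2 : γ'⁻¹ * γ ∈ c.ker := by
        rw [MonoidHom.mem_ker, map_mul, map_inv, h]; simp
      have h3 := hk h2
      rw [MonoidHom.mem_ker, map_mul, map_inv, MonoidHom.mem_ker.1 hγ'] at h3
      simpa using h3

theorem exists_hom_of_range_quot (c : Γ →* A) (N : Subgroup Γ) [N.Normal] (hker : c.ker ≤ N)
    (e : (Γ ⧸ N) ≃* X) :
    ∃ φ : ↥c.range →* X, Function.Surjective φ ∧ φ.ker = (N.map c).subgroupOf c.range := by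
  let ψ : Γ →* X := e.toMonoidHom.comp (QuotientGroup.mk' N)
  have hψk : ψ.ker = N := by
    ext x
    rw [MonoidHom.mem_ker]
    change e (QuotientGroup.mk x) = 1 ↔ _
    rw [map_eq_one_iff e e.injective, QuotientGroup.eq_one_iff]
  have hψs : Function.Surjective ψ := e.surjective.comp (QuotientGroup.mk'_surjective _)
  have h1 := exists_hom_of_range c ψ hψs (by rw [hψk]; exact hker)
  rw [hψk] at h1
  exact h1

theorem exists_hom_of_map (c : Γ →* A) (Γ₀ N : Subgroup Γ) (hN : N ≤ Γ₀) (hker : c.ker ⊓ Γ₀ ≤ N)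
    [hn : (N.subgroupOf Γ₀).Normal] (e : (↥Γ₀ ⧸ N.subgroupOf Γ₀) ≃* X) :
    ∃ φ : ↥(Γ₀.map c) →* X, Function.Surjective φ ∧
      φ.ker = (N.map c).subgroupOf (Γ₀.map c) := by
  have hr : (c.comp Γ₀.subtype).range = Γ₀.map c := by
    rw [MonoidHom.range_comp, Subgroup.range_subtype]
  let ψ : ↥Γ₀ →* X := e.toMonoidHom.comp (QuotientGroup.mk' (N.subgroupOf Γ₀))
  have hψk : ψ.ker = N.subgroupOf Γ₀ := by
    ext x
    rw [MonoidHom.mem_ker]
    change e (QuotientGroup.mk x) = 1 ↔ _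
    rw [map_eq_one_iff e e.injective, QuotientGroup.eq_one_iff]
  have hψs : Function.Surjective ψ := e.surjective.comp (QuotientGroup.mk'_surjective _)
  have h1 := exists_hom_of_range (c.comp Γ₀.subtype) ψ hψs (by
    intro x hx
    rw [hψk, Subgroup.mem_subgroupOf]
    exact hker ⟨hx, x.2⟩)
  have h2 : ψ.ker.map (c.comp Γ₀.subtype) = N.map c := by
    rw [hψk, ← Subgroup.map_map, Subgroup.subgroupOf_map_subtype, inf_eq_left.2 hN]
  rw [h2, hr] at h1
  exact h1

theorem nonempty_mulEquiv_klein {G : Type*} [Group G] (h4 : Nat.card G = 4)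
    (h2 : ∀ x : G, x * x = 1) : Nonempty (G ≃* Multiplicative (ZMod 2 × ZMod 2)) := by
  have : IsKleinFour G := by
    refine ⟨h4, ?_⟩
    have hd : Monoid.exponent G ∣ 2 :=
      Monoid.exponent_dvd_of_forall_pow_eq_one (fun g => by rw [pow_two]; exact h2 g)
    rcases (Nat.dvd_prime Nat.prime_two).1 hd with h | h
    · exfalso
      rw [Monoid.exp_eq_one_iff] at h
      have := Nat.card_eq_one_iff_unique.2 ⟨h, ⟨1⟩⟩
      omega
    · exact h
  exact IsKleinFour.nonempty_mulEquiv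

theorem nonempty_mulEquiv_two {G : Type*} [Group G] (h2 : Nat.card G = 2) :
    Nonempty (G ≃* Multiplicative (ZMod 2)) := by
  have : Fact (Nat.Prime 2) := ⟨Nat.prime_two⟩
  exact ⟨mulEquivOfPrimeCardEq (p := 2) h2 (by simp)⟩

theorem nonempty_mulEquiv_four {G : Type*} [Group G] (h4 : Nat.card G = 4) (a : G)
    (ha : orderOf a = 4) : Nonempty (G ≃* Multiplicative (ZMod 4)) := by
  have : Finite G := Nat.finite_of_card_ne_zero (by omega)
  have : IsCyclic G := isCyclic_of_orderOf_eq_card a (by rw [ha, h4])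
  exact ⟨mulEquivOfCyclicCardEq (by rw [h4]; simp)⟩

end Cfsg.Agent.Lib.Helper44
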