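import Cfsg.Agent.Lib.Helper44.InndiagPlus

set_option autoImplicit false

namespace Cfsg.Agent.Lib.Helper44

open QuadraticMap Module Matrix

universe u

variable {K : Type u} [Field K] {ι : Type} [Fintype ι] [DecidableEq ι]

theorem plus_simil_map_U0 (m : ℕ) (ν : K)
    (δ : GL (Fin m ⊕ Fin m) K)
    (hδ1 : (δ : Matrix (Fin m ⊕ Fin m) (Fin m ⊕ Fin m) K)
        = Matrix.diagonal (Sum.elim (fun _ => ν) (fun _ => 1))) :
    (U0 m K).map (Matrix.toLin' (δ : Matrix (Fin m ⊕ Fin m) (Fin m ⊕ Fin m) K)) = U0 m K := by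
  apply Submodule.eq_of_le_of_finrank_eq
  · rintro _ ⟨u, hu, rfl⟩
    rw [mem_U0]
    intro i
    rw [Matrix.toLin'_apply, hδ1, Matrix.mulVec_diagonal, mem_U0.1 hu i, mul_zero]
  · rw [toLin'_eq_glEquiv, LinearEquiv.finrank_map_eq]

/-- a form isometric to the standard hyperbolic form: class preserving similarities -/
theorem preserves_iff_of_plus [Fintype K] (h2 : (2 : K) ≠ 0) (Q : QuadraticForm K (ι → K)) (m : ℕ)
    (hm1 : 1 ≤ m) (hm : Fintype.card ι = 2 * m)
    (Te : (ι → K) ≃ₗ[K] (Fin m ⊕ Fin m → K)) (hT : ∀ v, plusQF m K (Te v) = Q v)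
    (g : ↥(Cfsg.Geo.quadSimilarityGroup ⇑Q)) :
    Cfsg.PreservesSingularClasses ⇑Q ((g : GL ι K) : Matrix ι ι K) ↔
      ((g : GL ι K) : Matrix ι ι K).det = (multF Q g : K) ^ m := by
  have hpol : ∀ x y, polar (plusQF m K) (Te x) (Te y) = polar Q x y := by
    intro x y
    simp only [polar, ← map_add, hT]
  have hQ : (polarBilin Q).Nondegenerate := by
    apply nondeg_of_sep
    intro x hx
    apply Te.injective
    rw [map_zero]
    apply (plusQF_nondeg m K).1
    intro w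
    obtain ⟨y, rfl⟩ := Te.surjective w
    rw [polarBilin_apply_apply, hpol]
    exact hx y
  have hex : ∃ v, Q v ≠ 0 := by
    obtain ⟨w, hw⟩ := plus_hex (F := K) m hm1
    obtain ⟨y, rfl⟩ := Te.surjective w
    exact ⟨y, by rw [← hT]; exact hw⟩
  have hMS : ∀ U : Submodule K (ι → K), MS Q m U →
      MS (plusQF m K) m (U.map (Te : (ι → K) →ₗ[K] (Fin m ⊕ Fin m → K))) := by
    intro U hU
    refine ⟨by rw [LinearEquiv.finrank_map_eq]; exact hU.1, ?_⟩
    rintro _ ⟨u, hu, rfl⟩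
    change plusQF m K (Te u) = 0
    rw [hT]; exact hU.2 u hu
  have hT3 : T3 Q m := by
    intro U W X hU hW hX
    have := plus_T3 (F := K) m hm1 _ _ _ (hMS U hU) (hMS W hW) (hMS X hX)
    rw [← Submodule.map_inf _ Te.injective, ← Submodule.map_inf _ Te.injective,
      ← Submodule.map_inf _ Te.injective, LinearEquiv.finrank_map_eq, LinearEquiv.finrank_map_eq,
      LinearEquiv.finrank_map_eq] at this
    exact this
  set U₀ : Submodule K (ι → K) :=
    (U0 m K).map (Te.symm : (Fin m ⊕ Fin m → K) →ₗ[K] (ι → K)) with hU₀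
  have hU₀MS : MS Q m U₀ := by
    refine ⟨by rw [hU₀, LinearEquiv.finrank_map_eq]; exact finrank_U0, ?_⟩
    rintro _ ⟨u, hu, rfl⟩
    change Q (Te.symm u) = 0
    rw [← hT, LinearEquiv.apply_symm_apply]
    exact U0_sing u hu
  obtain ⟨δp, hδ1, hδ2⟩ := plus_exists_simil' (F := K) m hm1 (multF Q g)
  set fp := Matrix.toLin' ((δp : GL (Fin m ⊕ Fin m) K) :
    Matrix (Fin m ⊕ Fin m) (Fin m ⊕ Fin m) K) with hfp
  set L : (ι → K) →ₗ[K] (ι → K) :=
    (Te.symm : (Fin m ⊕ Fin m → K) →ₗ[K] (ι → K)) ∘ₗ fp ∘ₗ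
      (Te : (ι → K) →ₗ[K] (Fin m ⊕ Fin m → K)) with hL
  obtain ⟨δ, hδa, hδb⟩ := exists_simil_of_linearMap hQ L (multF Q g) (by
    intro v
    rw [← hT, hL]
    simp only [LinearMap.coe_comp, LinearEquiv.coe_coe, Function.comp_apply,
      LinearEquiv.apply_symm_apply]
    rw [hfp, Matrix.toLin'_apply, multF_spec, hδ2, hT])
  have hδL : Matrix.toLin' ((δ : GL ι K) : Matrix ι ι K) = L := by
    apply LinearMap.ext
    intro v
    rw [Matrix.toLin'_apply, hδa]
  have hδm : multF Q δ = multF Q g := multF_unique hex δ _ hδb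
  have hδU : U₀.map (Matrix.toLin' ((δ : GL ι K) : Matrix ι ι K)) = U₀ := by
    rw [hδL, hL, hU₀, Submodule.map_comp, Submodule.map_comp, ← Submodule.map_comp _
      (Te : (ι → K) →ₗ[K] (Fin m ⊕ Fin m → K))]
    have : (Te : (ι → K) →ₗ[K] (Fin m ⊕ Fin m → K)) ∘ₗ
        (Te.symm : (Fin m ⊕ Fin m → K) →ₗ[K] (ι → K)) = LinearMap.id := by
      apply LinearMap.ext; intro x; simp
    rw [this, Submodule.map_id, hfp, plus_simil_map_U0 m _ _ hδ1]
  have hdet : ((δ : GL ι K) : Matrix ι ι K).det = (multF Q g : K) ^ m := by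
    rw [← LinearMap.det_toLin', hδL, hL]
    have := LinearMap.det_conj fp Te.symm
    rw [LinearEquiv.symm_symm] at this
    rw [this, hfp, LinearMap.det_toLin', hδ1, det_diag_plus]
  rw [preserves_iff h2 hQ hm hT3 hU₀MS g δ hδU hδm, hdet]

end Cfsg.Agent.Lib.Helper44
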