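import Cfsg.Agent.Lib.Helper44.GroupQuot
import Cfsg.Agent.Lib.Helper44.D8Quot

set_option autoImplicit false

namespace Cfsg.Agent.Lib.Helper44

variable {Γ : Type*} [Group Γ]

theorem card_quot_subgroupOf (N Γ₀ : Subgroup Γ) :
    Nat.card (↥Γ₀ ⧸ N.subgroupOf Γ₀) = N.relIndex Γ₀ := rfl

theorem quot_two (N Γ₀ : Subgroup Γ) [N.Normal] (h1 : N.relIndex Γ₀ = 2) :
    Nonempty ((↥Γ₀ ⧸ N.subgroupOf Γ₀) ≃* Multiplicative (ZMod 2)) :=
  nonempty_mulEquiv_two (by rw [card_quot_subgroupOf, h1])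

theorem quot_klein (N M Γ₀ : Subgroup Γ) [hN : N.Normal] [hM : M.Normal] (hNM : N ≤ M) (hMΓ : M ≤ Γ₀)
    (h1 : M.relIndex Γ₀ = 2) (h2 : N.relIndex M = 2) (δ : Γ) (hδ : δ ∈ Γ₀) (hδM : δ ∉ M)
    (hδδ : δ * δ ∈ N) :
    Nonempty ((↥Γ₀ ⧸ N.subgroupOf Γ₀) ≃* Multiplicative (ZMod 2 × ZMod 2)) := by
  apply nonempty_mulEquiv_klein
  · rw [card_quot_subgroupOf, ← Subgroup.relIndex_mul_relIndex N M Γ₀ hNM hMΓ, h1, h2]
  · intro x
    induction x using QuotientGroup.induction_on with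
    | H g =>
      rw [← QuotientGroup.mk_mul, QuotientGroup.eq_one_iff, Subgroup.mem_subgroupOf]
      obtain ⟨g, hg⟩ := g
      change g * g ∈ N
      by_cases hgM : g ∈ M
      · exact (mul_mem_iff_of_relIndex_two h2 hgM hgM).2 Iff.rfl
      · have hh : δ⁻¹ * g ∈ M := by
          rw [mul_mem_iff_of_relIndex_two h1 (inv_mem hδ) hg, inv_mem_iff]
          tauto
        have e : g * g = (δ * δ) * ((δ⁻¹ * (δ⁻¹ * g) * δ⁻¹⁻¹) * (δ⁻¹ * g)) := by group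
        rw [e]
        refine mul_mem hδδ ?_
        rw [mul_mem_iff_of_relIndex_two h2 (hM.conj_mem _ hh _) hh]
        constructor
        · intro h
          have := hN.conj_mem _ h δ
          have e2 : δ * (δ⁻¹ * (δ⁻¹ * g) * δ⁻¹⁻¹) * δ⁻¹ = δ⁻¹ * g := by group
          rwa [e2] at this
        · intro h
          exact hN.conj_mem _ h _

theorem quot_four (N M Γ₀ : Subgroup Γ) [hN : N.Normal] (hNM : N ≤ M) (hMΓ : M ≤ Γ₀)
    (h1 : M.relIndex Γ₀ = 2) (h2 : N.relIndex M = 2) (δ : Γ) (hδ : δ ∈ Γ₀)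
    (hδδ : δ * δ ∉ N) :
    Nonempty ((↥Γ₀ ⧸ N.subgroupOf Γ₀) ≃* Multiplicative (ZMod 4)) := by
  have hc : Nat.card (↥Γ₀ ⧸ N.subgroupOf Γ₀) = 4 := by
    rw [card_quot_subgroupOf, ← Subgroup.relIndex_mul_relIndex N M Γ₀ hNM hMΓ, h1, h2]
  apply nonempty_mulEquiv_four hc (QuotientGroup.mk (⟨δ, hδ⟩ : ↥Γ₀))
  have : Fact (Nat.Prime 2) := ⟨Nat.prime_two⟩
  have := orderOf_eq_prime_pow (p := 2) (n := 1)
    (x := (QuotientGroup.mk (⟨δ, hδ⟩ : ↥Γ₀) : ↥Γ₀ ⧸ N.subgroupOf Γ₀)) (by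
      rw [pow_one, pow_two, ← QuotientGroup.mk_mul, QuotientGroup.eq_one_iff,
        Subgroup.mem_subgroupOf]
      exact hδδ) (by
      have := pow_card_eq_one' (x := (QuotientGroup.mk (⟨δ, hδ⟩ : ↥Γ₀) : ↥Γ₀ ⧸ N.subgroupOf Γ₀))
      rw [hc] at this
      exact this)
  simpa using this

end Cfsg.Agent.Lib.Helper44
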