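import Cfsg.Agent.Lib.Helper44.SingClass
import Cfsg.Agent.Lib.Helper44.Quot4

set_option autoImplicit false

namespace Cfsg.Agent.Lib.Helper44

open QuadraticMap Module Matrix

universe u

variable {F : Type u} [Field F] {ι : Type} [Fintype ι] [DecidableEq ι]

theorem autSubgroupOf_eq_map_ker (Qf : (ι → F) → F) (χ : ↥(Cfsg.Geo.quadSimilarityGroup Qf) →* ℤˣ)
    (P : GL ι F → Prop) (hP : ∀ g : ↥(Cfsg.Geo.quadSimilarityGroup Qf), P (g : GL ι F) ↔ χ g = 1) :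
    Cfsg.autSubgroupOf (fun β : Cfsg.POmega F Qf ≃* Cfsg.POmega F Qf =>
      ∃ g : GL ι F, g ∈ Cfsg.Geo.quadSimilarityGroup Qf ∧ P g ∧
        Cfsg.IsInducedBySemilinearPOmega Qf g (RingEquiv.refl F) β)
    = χ.ker.map (conjPOmega Qf) := by
  have h1 := autSubgroupOf_eq_map Qf (fun g => g ∈ Cfsg.Geo.quadSimilarityGroup Qf ∧ P g)
    (fun g hg => hg.1)
  have h2 : {g : ↥(Cfsg.Geo.quadSimilarityGroup Qf) |
      (g : GL ι F) ∈ Cfsg.Geo.quadSimilarityGroup Qf ∧ P (g : GL ι F)} = (χ.ker : Set _) := by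
    ext g
    simp only [Set.mem_setOf_eq, SetLike.mem_coe, MonoidHom.mem_ker, ← hP g]
    exact ⟨fun h => h.2, fun h => ⟨g.2, h⟩⟩
  rw [h2, Subgroup.closure_eq] at h1
  rw [← h1]
  congr 1
  funext β
  simp only [and_assoc]

theorem relIndex_ker_psi1_chi2 [Fintype F] (h2 : (2 : F) ≠ 0) {Q : QuadraticForm F (ι → F)}
    (hQ : (polarBilin Q).Nondegenerate) (hex : ∃ v, Q v ≠ 0) (m : ℕ)
    (hm : Fintype.card ι = 2 * m) (δ : ↥(Cfsg.Geo.quadSimilarityGroup ⇑Q))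
    (hδ1 : ¬ IsSquare (multF Q δ : F)) (hδ2 : δ ∈ (chi2 h2 hQ hex m hm).ker) :
    (psi1 h2 hQ hex m hm).ker.relIndex (chi2 h2 hQ hex m hm).ker = 2 := by
  rw [psi1, MonoidHom.ker_prod, Subgroup.inf_relIndex_right]
  have e : (chi1 Q hex).ker.subgroupOf (chi2 h2 hQ hex m hm).ker
      = ((chi1 Q hex).comp (chi2 h2 hQ hex m hm).ker.subtype).ker := by
    rw [Subgroup.subgroupOf, MonoidHom.comap_ker]
  rw [Subgroup.relIndex, e, Subgroup.index_ker]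
  have hs : Function.Surjective ((chi1 Q hex).comp (chi2 h2 hQ hex m hm).ker.subtype) := by
    intro x
    rcases Int.units_eq_one_or x with rfl | rfl
    · exact ⟨1, map_one _⟩
    · refine ⟨⟨δ, hδ2⟩, ?_⟩
      rcases Int.units_eq_one_or (chi1 Q hex δ) with h | h
      · exact absurd ((chi1_eq_one_iff Q hex δ).1 h) hδ1
      · exact h
  rw [MonoidHom.range_eq_top.2 hs]
  simp [Nat.card_eq_fintype_card]

theorem ker_psi1_le_chi2 [Fintype F] (h2 : (2 : F) ≠ 0) {Q : QuadraticForm F (ι → F)}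
    (hQ : (polarBilin Q).Nondegenerate) (hex : ∃ v, Q v ≠ 0) (m : ℕ)
    (hm : Fintype.card ι = 2 * m) :
    (psi1 h2 hQ hex m hm).ker ≤ (chi2 h2 hQ hex m hm).ker := by
  rw [psi1, MonoidHom.ker_prod]
  exact inf_le_right

/-- structure of (class preserving similarities) / `Ω Z` -/
theorem exists_hom_inndiag [Fintype F] (h2 : (2 : F) ≠ 0) (Q : QuadraticForm F (ι → F))
    (hQ : (polarBilin Q).Nondegenerate) (hn : 5 ≤ Fintype.card ι) (hex : ∃ v, Q v ≠ 0) (m : ℕ)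
    (hm : Fintype.card ι = 2 * m) (δ : ↥(Cfsg.Geo.quadSimilarityGroup ⇑Q))
    (hδ1 : ¬ IsSquare (multF Q δ : F)) (hδ2 : δ ∈ (chi2 h2 hQ hex m hm).ker) :
    (negOneO Q ∉ Cfsg.Omega F ⇑Q →
      ∃ φ : ↥((chi2 h2 hQ hex m hm).ker.map (conjPOmega ⇑Q)) →* Multiplicative (ZMod 2),
        Function.Surjective φ ∧ φ.ker = (Cfsg.Inn (Cfsg.POmega F ⇑Q)).subgroupOf
          ((chi2 h2 hQ hex m hm).ker.map (conjPOmega ⇑Q))) ∧
    (negOneO Q ∈ Cfsg.Omega F ⇑Q → δ * δ ∈ Oms Q ⊔ (conjPOmega ⇑Q).ker →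
      ∃ φ : ↥((chi2 h2 hQ hex m hm).ker.map (conjPOmega ⇑Q)) →* Multiplicative (ZMod 2 × ZMod 2),
        Function.Surjective φ ∧ φ.ker = (Cfsg.Inn (Cfsg.POmega F ⇑Q)).subgroupOf
          ((chi2 h2 hQ hex m hm).ker.map (conjPOmega ⇑Q))) ∧
    (negOneO Q ∈ Cfsg.Omega F ⇑Q → δ * δ ∉ Oms Q ⊔ (conjPOmega ⇑Q).ker →
      ∃ φ : ↥((chi2 h2 hQ hex m hm).ker.map (conjPOmega ⇑Q)) →* Multiplicative (ZMod 4),
        Function.Surjective φ ∧ φ.ker = (Cfsg.Inn (Cfsg.POmega F ⇑Q)).subgroupOf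
          ((chi2 h2 hQ hex m hm).ker.map (conjPOmega ⇑Q))) := by
  have hM := ker_psi1_eq' h2 hQ hn hex m hm
  have hMΓ := ker_psi1_le_chi2 h2 hQ hex m hm
  have hrel := relIndex_ker_psi1_chi2 h2 hQ hex m hm δ hδ1 hδ2
  have hNM : Oms Q ⊔ (conjPOmega ⇑Q).ker ≤ (psi1 h2 hQ hex m hm).ker := by
    rw [hM]; exact sup_le_sup_right (Oms_le_SOs Q) _
  have hδM : δ ∉ (psi1 h2 hQ hex m hm).ker := by
    intro h
    exact hδ1 ((mem_ker_psi1_iff h2 hQ hex m hm δ).1 h).1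
  have fin : ∀ {X : Type} [Group X],
      Nonempty ((↥(chi2 h2 hQ hex m hm).ker ⧸
        (Oms Q ⊔ (conjPOmega ⇑Q).ker).subgroupOf (chi2 h2 hQ hex m hm).ker) ≃* X) →
      ∃ φ : ↥((chi2 h2 hQ hex m hm).ker.map (conjPOmega ⇑Q)) →* X,
        Function.Surjective φ ∧ φ.ker = (Cfsg.Inn (Cfsg.POmega F ⇑Q)).subgroupOf
          ((chi2 h2 hQ hex m hm).ker.map (conjPOmega ⇑Q)) := by
    rintro X _ ⟨e⟩
    have h1 := exists_hom_of_map (conjPOmega ⇑Q) (chi2 h2 hQ hex m hm).ker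
      (Oms Q ⊔ (conjPOmega ⇑Q).ker) (hNM.trans hMΓ) (inf_le_left.trans le_sup_right) e
    rw [map_sup_ker_eq, ← inn_eq'] at h1
    exact h1
  refine ⟨fun hneg => fin ?_, fun hneg hδδ => fin ?_, fun hneg hδδ => fin ?_⟩
  · have hN : Oms Q ⊔ (conjPOmega ⇑Q).ker = (psi1 h2 hQ hex m hm).ker := by
      rw [hM]
      exact le_antisymm (sup_le_sup_right (Oms_le_SOs Q) _)
        (sup_le (SOs_le_sup_ker h2 Q hQ hn m hm hneg) le_sup_right)
    exact quot_two _ _ (by rw [hN]; exact hrel)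
  · exact quot_klein _ _ _ hNM hMΓ hrel (by rw [hM]; exact relIndex_sup_ker h2 Q hQ hn hneg)
      δ hδ2 hδM hδδ
  · exact quot_four _ _ _ hNM hMΓ hrel (by rw [hM]; exact relIndex_sup_ker h2 Q hQ hn hneg)
      δ hδ2 hδδ

/-- `δ² ∈ Ω Z` iff `δ²/ν ∈ Ω` -/
theorem sq_mem_iff [Fintype F] (h2 : (2 : F) ≠ 0) (Q : QuadraticForm F (ι → F))
    (hQ : (polarBilin Q).Nondegenerate) (hn : 5 ≤ Fintype.card ι)
    (hneg : negOneO Q ∈ Cfsg.Omega F ⇑Q) (δ : ↥(Cfsg.Geo.quadSimilarityGroup ⇑Q))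
    (s : ↥(Cfsg.isometryGroup F ⇑Q)) (hdet : s ∈ Cfsg.specialIsometryGroup F ⇑Q) (c : Fˣ)
    (hs : ((s : GL ι F) : Matrix ι ι F) =
      (c : F) • (((δ : GL ι F) : Matrix ι ι F) * ((δ : GL ι F) : Matrix ι ι F))) :
    δ * δ ∈ Oms Q ⊔ (conjPOmega ⇑Q).ker ↔ s ∈ Cfsg.Omega F ⇑Q := by
  have e : ofO Q s = (δ * δ) * scalSimil Q c := by
    apply Subtype.ext; apply Units.ext
    rw [ofO_coe, hs]
    simp only [Subgroup.coe_mul, Units.val_mul, scalSimil_coe]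
    simp
  have hz : scalSimil Q c ∈ (conjPOmega ⇑Q).ker := by
    rw [mem_ker_conjPOmega_iff h2 Q hQ hn]
    exact ⟨c, scalSimil_coe Q c⟩
  constructor
  · intro h
    rw [← ofO_mem_Oms, ← sup_ker_inf_SOs h2 Q hQ hn hneg]
    refine ⟨?_, ofO_mem_SOs.2 hdet⟩
    rw [e]
    exact mul_mem h (Subgroup.mem_sup_right hz)
  · intro h
    have e2 : δ * δ = ofO Q s * (scalSimil Q c)⁻¹ := by rw [e]; group
    rw [e2]
    exact mul_mem (Subgroup.mem_sup_left (ofO_mem_Oms.2 h)) (Subgroup.mem_sup_right (inv_mem hz))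

end Cfsg.Agent.Lib.Helper44
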