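import Cfsg.Agent.Lib.Helper44.Inndiag
import Cfsg.Agent.S2611

set_option autoImplicit false

namespace Cfsg.Agent.Lib.Helper44

open QuadraticMap Module Matrix

universe u

variable {F : Type u} [Field F] {ι : Type} [Fintype ι] [DecidableEq ι]

/-- `δ²/ν` as a special isometry -/
theorem exists_sq_isometry {Q : QuadraticForm F (ι → F)} (hQ : (polarBilin Q).Nondegenerate)
    (δ : ↥(Cfsg.Geo.quadSimilarityGroup ⇑Q)) :
    ∃ s : ↥(Cfsg.isometryGroup F ⇑Q), s ∈ Cfsg.specialIsometryGroup F ⇑Q ∧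
      ((s : GL ι F) : Matrix ι ι F) = (((multF Q δ)⁻¹ : Fˣ) : F) •
        (((δ : GL ι F) : Matrix ι ι F) * ((δ : GL ι F) : Matrix ι ι F)) := by
  have hν : (multF Q δ : F) ≠ 0 := Units.ne_zero _
  have hmat : (((δ * δ * scalSimil Q (multF Q δ)⁻¹ : ↥(Cfsg.Geo.quadSimilarityGroup ⇑Q)) : GL ι F) :
      Matrix ι ι F) = (((multF Q δ)⁻¹ : Fˣ) : F) •
        (((δ : GL ι F) : Matrix ι ι F) * ((δ : GL ι F) : Matrix ι ι F)) := by
    simp only [Subgroup.coe_mul, Units.val_mul, scalSimil_coe]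
    simp
  refine ⟨⟨((δ * δ * scalSimil Q (multF Q δ)⁻¹ : ↥(Cfsg.Geo.quadSimilarityGroup ⇑Q)) : GL ι F), ?_⟩,
    ?_, hmat⟩
  · rw [mem_isometryGroup]
    intro u
    rw [hmat, Matrix.smul_mulVec, QuadraticMap.map_smul, ← mulVec_mulVec, multF_spec, multF_spec]
    simp only [Units.val_inv_eq_inv_val, smul_eq_mul]
    field_simp
  · rw [mem_specialIsometryGroup]
    change (((δ * δ * scalSimil Q (multF Q δ)⁻¹ : ↥(Cfsg.Geo.quadSimilarityGroup ⇑Q)) : GL ι F) :
      Matrix ι ι F).det = 1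
    rw [hmat, Matrix.det_smul, Matrix.det_mul, ← pow_two, det_sq_simil hQ]
    simp only [Units.val_inv_eq_inv_val]
    rw [← mul_pow, inv_mul_cancel₀ hν, one_pow]

theorem plus_T3 (m : ℕ) (hm : 1 ≤ m) : T3 (plusQF m F) m := by
  intro U W X hU hW hX
  have h := (Cfsg.Agent.S0831.result (F := F) m hm).1 U W X
  rw [← plusQF_coe] at h
  exact h hU hW hX

theorem plus_MS_U0 (m : ℕ) : MS (plusQF m F) m (U0 m F) := ⟨finrank_U0, U0_sing⟩

theorem plus_hex (m : ℕ) (hm : 1 ≤ m) : ∃ v, plusQF m F v ≠ 0 :=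
  exists_nonsingular (plusQF_nondeg m F) (by simp; omega)

theorem plus_card (m : ℕ) : Fintype.card (Fin m ⊕ Fin m) = 2 * m := by
  simp only [Fintype.card_sum, Fintype.card_fin]; omega

/-- the diagonal similarity -/
theorem plus_exists_simil' (m : ℕ) (hm : 1 ≤ m) (ν : Fˣ) :
    ∃ δ : ↥(Cfsg.Geo.quadSimilarityGroup ⇑(plusQF m F)),
      ((δ : GL (Fin m ⊕ Fin m) F) : Matrix (Fin m ⊕ Fin m) (Fin m ⊕ Fin m) F)
        = Matrix.diagonal (Sum.elim (fun _ => (ν : F)) (fun _ => 1)) ∧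
      multF (plusQF m F) δ = ν := by
  obtain ⟨δ, h1, h2⟩ := plus_exists_simil (F := F) m ν
  refine ⟨δ, ?_, multF_unique (plus_hex m hm) δ ν h2⟩
  apply matrix_ext_mulVec
  intro x
  rw [h1]
  ext k
  simp only [Matrix.mulVec_diagonal]

theorem det_diag_plus (m : ℕ) (ν : F) :
    (Matrix.diagonal (Sum.elim (fun _ : Fin m => ν) (fun _ : Fin m => (1 : F)))).det = ν ^ m := by
  rw [Matrix.det_diagonal, Fintype.prod_sum_type]
  simp

theorem plus_preserves_iff [Fintype F] (h2 : (2 : F) ≠ 0) (m : ℕ) (hm : 1 ≤ m)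
    (g : ↥(Cfsg.Geo.quadSimilarityGroup ⇑(plusQF m F))) :
    Cfsg.PreservesSingularClasses ⇑(plusQF m F)
      ((g : GL (Fin m ⊕ Fin m) F) : Matrix (Fin m ⊕ Fin m) (Fin m ⊕ Fin m) F) ↔
    ((g : GL (Fin m ⊕ Fin m) F) : Matrix (Fin m ⊕ Fin m) (Fin m ⊕ Fin m) F).det
      = (multF (plusQF m F) g : F) ^ m := by
  obtain ⟨δ, hδ1, hδ2⟩ := plus_exists_simil' (F := F) m hm (multF (plusQF m F) g)
  have hU : (U0 m F).map (Matrix.toLin' ((δ : GL (Fin m ⊕ Fin m) F) :
      Matrix (Fin m ⊕ Fin m) (Fin m ⊕ Fin m) F)) = U0 m F := by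
    apply Submodule.eq_of_le_of_finrank_eq
    · rintro _ ⟨u, hu, rfl⟩
      rw [mem_U0]
      intro i
      rw [Matrix.toLin'_apply, hδ1, Matrix.mulVec_diagonal, mem_U0.1 hu i, mul_zero]
    · rw [toLin'_eq_glEquiv, LinearEquiv.finrank_map_eq]
  rw [preserves_iff h2 (plusQF_nondeg m F) (plus_card m) (plus_T3 m hm) (plus_MS_U0 m) g δ hU hδ2,
    hδ1, det_diag_plus]

theorem isSquare_pow_iff_even {ν : F} (h0 : ν ≠ 0) (hν : ¬ IsSquare ν) (m : ℕ) :
    IsSquare (ν ^ m) ↔ Even m := by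
  constructor
  · intro h
    by_contra hne
    rw [Nat.not_even_iff_odd] at hne
    obtain ⟨k, rfl⟩ := hne
    obtain ⟨r, hr⟩ := h
    apply hν
    refine ⟨r / ν ^ k, ?_⟩
    field_simp
    rw [pow_two r, ← hr]
    ring
  · intro h
    exact h.isSquare_pow ν

/-- `Inndiag(PΩ⁺) / Inn` -/
theorem plus_inndiag [Fintype F] (hodd : Odd (Fintype.card F)) (m : ℕ) (hm : 4 ≤ m) :
    ((Odd m ∧ Fintype.card F % 4 = 3) →
      ∃ φ : ↥(Cfsg.inndiagPOmegaPlus m F) →* Multiplicative (ZMod 2), Function.Surjective φ ∧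
        φ.ker = (Cfsg.Inn (Cfsg.POmega F (Cfsg.quadFormPlus m F))).subgroupOf
          (Cfsg.inndiagPOmegaPlus m F)) ∧
    ((Odd m ∧ Fintype.card F % 4 = 1) →
      ∃ φ : ↥(Cfsg.inndiagPOmegaPlus m F) →* Multiplicative (ZMod 4), Function.Surjective φ ∧
        φ.ker = (Cfsg.Inn (Cfsg.POmega F (Cfsg.quadFormPlus m F))).subgroupOf
          (Cfsg.inndiagPOmegaPlus m F)) ∧
    (Even m →
      ∃ φ : ↥(Cfsg.inndiagPOmegaPlus m F) →* Multiplicative (ZMod 2 × ZMod 2),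
        Function.Surjective φ ∧
        φ.ker = (Cfsg.Inn (Cfsg.POmega F (Cfsg.quadFormPlus m F))).subgroupOf
          (Cfsg.inndiagPOmegaPlus m F)) := by
  have h2 : (2 : F) ≠ 0 := two_ne_zero_of_odd_card hodd
  have hQ := plusQF_nondeg m F
  have hex := plus_hex (F := F) m (by omega)
  have hn : 5 ≤ Fintype.card (Fin m ⊕ Fin m) := by rw [plus_card]; omega
  obtain ⟨ν, hν⟩ := exists_nonsquare_unit h2
  obtain ⟨δ, hδ1, hδ2⟩ := plus_exists_simil' (F := F) m (by omega) ν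
  have hδk : δ ∈ (chi2 h2 hQ hex m (plus_card m)).ker := by
    rw [MonoidHom.mem_ker, chi2_eq_one_iff, hδ1, hδ2, det_diag_plus]
  have key := exists_hom_inndiag h2 (plusQF m F) hQ hn hex m (plus_card m) δ
    (by rw [hδ2]; exact hν) hδk
  have heq := autSubgroupOf_eq_map_ker ⇑(plusQF m F) (chi2 h2 hQ hex m (plus_card m))
    (fun g => Cfsg.PreservesSingularClasses ⇑(plusQF m F)
      (g : Matrix (Fin m ⊕ Fin m) (Fin m ⊕ Fin m) F)) (fun g => by
      rw [plus_preserves_iff h2 m (by omega), chi2_eq_one_iff])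
  have hsq : negOneO (plusQF m F) ∈ Cfsg.Omega F ⇑(plusQF m F) →
      (δ * δ ∈ Oms (plusQF m F) ⊔ (conjPOmega ⇑(plusQF m F)).ker ↔ Even m) := by
    intro hneg
    obtain ⟨s, hs1, hs2⟩ := exists_sq_isometry hQ δ
    rw [sq_mem_iff h2 (plusQF m F) hQ hn hneg δ s hs1 _ hs2, ← isSquare_pow_iff_even ν.ne_zero hν]
    have h3 := Cfsg.Agent.S2611.result (F := F) (m := m) (by omega) (Or.inr (by omega))
      (Matrix.GeneralLinearGroup.scalar (Fin m) ν)
    rw [← plusQF_coe] at h3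
    have h4 : ((Matrix.GeneralLinearGroup.scalar (Fin m) ν : GL (Fin m) F) :
        Matrix (Fin m) (Fin m) F) = Matrix.diagonal (fun _ => (ν : F)) := by
      simp
    have h5 : ((s : GL (Fin m ⊕ Fin m) F) : Matrix (Fin m ⊕ Fin m) (Fin m ⊕ Fin m) F) =
        Matrix.fromBlocks ((Matrix.GeneralLinearGroup.scalar (Fin m) ν : GL (Fin m) F) :
          Matrix (Fin m) (Fin m) F) 0 0
          (((Matrix.GeneralLinearGroup.scalar (Fin m) ν : GL (Fin m) F) :
            Matrix (Fin m) (Fin m) F)⁻¹).transpose := by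
      have h0 : (ν : F) ≠ 0 := ν.ne_zero
      have hinv : (Matrix.diagonal (fun _ : Fin m => (ν : F)))⁻¹
          = Matrix.diagonal (fun _ : Fin m => (ν : F)⁻¹) := by
        apply Matrix.inv_eq_right_inv
        rw [Matrix.diagonal_mul_diagonal]
        simp [h0]
      rw [hs2, hδ1, hδ2, h4, Matrix.diagonal_mul_diagonal, hinv,
        Matrix.diagonal_transpose, Matrix.fromBlocks_diagonal, ← Matrix.diagonal_smul]
      congr 1
      funext k
      rcases k with k | k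
      · simp only [Pi.smul_apply, Sum.elim_inl, smul_eq_mul, Units.val_inv_eq_inv_val]
        field_simp
      · simp only [Pi.smul_apply, Sum.elim_inr, smul_eq_mul, Units.val_inv_eq_inv_val, mul_one]
    have h6 : ((Matrix.GeneralLinearGroup.scalar (Fin m) ν : GL (Fin m) F) :
        Matrix (Fin m) (Fin m) F).det = (ν : F) ^ m := by
      rw [h4, Matrix.det_diagonal]; simp
    rw [← h6, ← h3]
    constructor
    · intro h; exact ⟨s, h, h5⟩
    · rintro ⟨g, hg, hg2⟩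
      have : g = s := by
        apply isometryGroup_ext
        rw [hg2, h5]
      rwa [← this]
  rw [← heq, plus_negOneO_mem_iff hodd m (by omega)] at key
  rw [plus_negOneO_mem_iff hodd m (by omega)] at hsq
  obtain ⟨k1, k2, k3⟩ := key
  have K1 := fun h : (Odd m ∧ Fintype.card F % 4 = 3) => k1 (not_not.2 h)
  have K2 := fun h : (Odd m ∧ Fintype.card F % 4 = 1) =>
    have hn' : ¬ (Odd m ∧ Fintype.card F % 4 = 3) := by
      rintro ⟨-, h3⟩; omega
    k3 hn' (by rw [hsq hn', Nat.not_even_iff_odd]; exact h.1)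
  have K3 := fun h : Even m =>
    have hn' : ¬ (Odd m ∧ Fintype.card F % 4 = 3) := by
      rintro ⟨h3, -⟩; exact (Nat.not_even_iff_odd.2 h3) h
    k2 hn' ((hsq hn').2 h)
  clear k1 k2 k3 hsq heq
  rw [plusQF_coe] at K1 K2 K3
  exact ⟨K1, K2, K3⟩

end Cfsg.Agent.Lib.Helper44
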