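import Cfsg.Agent.Lib.Helper44.RankParity
import Cfsg.Agent.Lib.Helper44.OmegaAll
import Cfsg.Agent.Lib.Helper44.MinusGeom

set_option autoImplicit false

namespace Cfsg.Agent.Lib.Helper44

open QuadraticMap Module Matrix

variable {F : Type*} [Field F] {ι : Type} [Fintype ι] [DecidableEq ι]

theorem reflElt_commute_of_fixed (Q : QuadraticForm F (ι → F)) (t : ↥(Cfsg.isometryGroup F ⇑Q))
    (x : ι → F) (htx : ((t : GL ι F) : Matrix ι ι F) *ᵥ x = x) :
    t * reflElt Q x * t⁻¹ = reflElt Q x := by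
  apply (isoEquiv Q).injective
  rw [map_mul, map_mul, map_inv, isoEquiv_reflElt]
  apply Subtype.ext
  have := conj_refl (isoEquiv Q t).2 x
  rw [isoEquiv_apply, htx] at this
  exact this

/-- characteristic two: if `t` fixes a non-singular vector, `O`-conjugates of `t` are
`Ω`-conjugates. -/
theorem exists_conj_Omega_of_fixed [Fintype F] [CharP F 2] (Q : QuadraticForm F (ι → F))
    (hQ : (polarBilin Q).Nondegenerate) (h : Fintype.card F ≠ 2 ∨ Fintype.card ι ≠ 4)
    (t s g : ↥(Cfsg.isometryGroup F ⇑Q)) (hg : g * t * g⁻¹ = s) (x : ι → F) (hx : Q x ≠ 0)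
    (htx : ((t : GL ι F) : Matrix ι ι F) *ᵥ x = x) :
    ∃ g' ∈ Cfsg.Omega F ⇑Q, g' * t * g'⁻¹ = s := by
  obtain ⟨l, hl, hgl⟩ := exists_list_reflectionMatrix Q hQ h g
  rcases Nat.even_or_odd l.length with he | ho
  · exact ⟨g, (mem_Omega_iff_of_prod_char_two Q hQ h g l hl hgl).2 he, hg⟩
  · refine ⟨g * reflElt Q x, ?_, ?_⟩
    · refine (mem_Omega_iff_of_prod_char_two Q hQ h _ (l ++ [x]) ?_ ?_).2 ?_
      · intro w hw
        rcases List.mem_append.1 hw with hw | hw
        · exact hl w hw
        · simp only [List.mem_cons, List.not_mem_nil, or_false] at hw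
          rw [hw]; exact hx
      · simp [hgl, reflElt_coe]
      · rw [List.length_append]; exact ho.add_odd (by simp)
    · have hc := reflElt_commute_of_fixed Q t x htx
      have h1 : t * reflElt Q x = reflElt Q x * t := by
        rw [← mul_inv_eq_iff_eq_mul]; exact hc
      have hc' : reflElt Q x * t * (reflElt Q x)⁻¹ = t := by
        rw [← h1, mul_assoc, mul_inv_cancel, mul_one]
      calc g * reflElt Q x * t * (g * reflElt Q x)⁻¹
          = g * (reflElt Q x * t * (reflElt Q x)⁻¹) * g⁻¹ := by group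
        _ = s := by rw [hc', hg]

/-- for an involution in characteristic two, `range (t-1) ≤ ker (t-1)` -/
theorem range_le_ker_of_involution [CharP F 2] (M : Matrix ι ι F) (hM : M * M = 1) :
    LinearMap.range (Matrix.mulVecLin (M - 1)) ≤ LinearMap.ker (Matrix.mulVecLin (M - 1)) := by
  rintro _ ⟨y, rfl⟩
  rw [LinearMap.mem_ker, Matrix.mulVecLin_apply, Matrix.mulVecLin_apply, Matrix.mulVec_mulVec]
  have : (M - 1) * (M - 1) = 0 := by
    have h2 : (2 : Matrix ι ι F) = 0 := by
      have : (2 : F) = 0 := CharTwo.two_eq_zero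
      ext i j
      have h3 : (2 : Matrix ι ι F) = (2 : F) • (1 : Matrix ι ι F) := by
        rw [two_smul]; norm_num
      rw [h3, this]; simp
    have : (M - 1) * (M - 1) = M * M - 2 * M + 1 := by noncomm_ring
    rw [this, hM, h2]
    simp
    have h4 : (1 : Matrix ι ι F) + 1 = 2 := by norm_num
    rw [h4, h2]
  rw [this, Matrix.zero_mulVec]

/-- dichotomy for involutions in characteristic two: either there is a fixed non-singular vector,
or `range (t - 1)` is totally singular of half the dimension. -/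
theorem involution_dichotomy [CharP F 2] (Q : QuadraticForm F (ι → F))
    (hQ : (polarBilin Q).Nondegenerate) (M : Matrix ι ι F) (hM : M * M = 1) :
    (∃ x, Q x ≠ 0 ∧ M *ᵥ x = x) ∨
      (2 * (M - 1).rank = Fintype.card ι ∧ ∀ u ∈ LinearMap.range (Matrix.mulVecLin (M - 1)), Q u = 0) := by
  by_cases hex : ∃ x, Q x ≠ 0 ∧ M *ᵥ x = x
  · exact Or.inl hex
  right
  push Not at hex
  have hker : ∀ x ∈ LinearMap.ker (Matrix.mulVecLin (M - 1)), Q x = 0 := by
    intro x hx
    by_contra h0
    apply hex x h0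
    rw [LinearMap.mem_ker, Matrix.mulVecLin_apply, Matrix.sub_mulVec, Matrix.one_mulVec,
      sub_eq_zero] at hx
    exact hx
  have h1 := LinearMap.finrank_range_add_finrank_ker (Matrix.mulVecLin (M - 1))
  have h2 := Submodule.finrank_mono (range_le_ker_of_involution M hM)
  have h3 : ¬ finrank F (ι → F) < 2 * finrank F (LinearMap.ker (Matrix.mulVecLin (M - 1))) := by
    intro hlt
    obtain ⟨v, hv, hv0⟩ := exists_nonsingular_of_finrank hQ _ hlt
    exact hv0 (hker v hv)
  have h4 : finrank F (ι → F) = Fintype.card ι := by simp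
  refine ⟨?_, fun u hu => hker u (range_le_ker_of_involution M hM hu)⟩
  rw [Matrix.rank]
  omega

theorem mul_self_of_orderOf_two {Q : (ι → F) → F} (t : ↥(Cfsg.isometryGroup F Q))
    (ht : orderOf t = 2) :
    ((t : GL ι F) : Matrix ι ι F) * ((t : GL ι F) : Matrix ι ι F) = 1 := by
  have h1 : t ^ 2 = 1 := by rw [← ht]; exact pow_orderOf_eq_one t
  have h2 := congrArg (fun g : ↥(Cfsg.isometryGroup F Q) => ((g : GL ι F) : Matrix ι ι F)) h1
  simpa [pow_two] using h2

theorem range_conj (g t s : GL ι F) (hg : g * t * g⁻¹ = s) :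
    LinearMap.range (Matrix.mulVecLin ((s : Matrix ι ι F) - 1))
      = (LinearMap.range (Matrix.mulVecLin ((t : Matrix ι ι F) - 1))).map
        (Matrix.mulVecLin (g : Matrix ι ι F)) := by
  have h1 : (s : Matrix ι ι F) - 1
      = (g : Matrix ι ι F) * ((t : Matrix ι ι F) - 1) * ((g⁻¹ : GL ι F) : Matrix ι ι F) := by
    rw [← hg]
    simp only [Units.val_mul, mul_sub, sub_mul, mul_one]
    congr 1
    rw [← Units.val_mul, mul_inv_cancel]; rfl
  rw [h1, Matrix.mulVecLin_mul, Matrix.mulVecLin_mul, LinearMap.range_comp]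
  have h2 : LinearMap.range (Matrix.mulVecLin ((g⁻¹ : GL ι F) : Matrix ι ι F)) = ⊤ := by
    rw [LinearMap.range_eq_top]
    intro y
    refine ⟨(g : Matrix ι ι F) *ᵥ y, ?_⟩
    rw [Matrix.mulVecLin_apply, Matrix.mulVec_mulVec, ← Units.val_mul, inv_mul_cancel]
    simp
  rw [h2, Submodule.map_comp, Submodule.map_top]

end Cfsg.Agent.Lib.Helper44
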