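import Cfsg.Agent.Lib.Helper44.InvolStd
import Cfsg.Agent.Lib.Helper45.Symp

set_option autoImplicit false

namespace Cfsg.Agent.Lib.Helper44

open Module QuadraticMap Matrix

variable {F : Type*} [Field F]

theorem plusQF_polar_eq_symp [CharP F 2] (m : ℕ) (u v : Fin m ⊕ Fin m → F) :
    polar (plusQF m F) u v = Cfsg.sympForm m F u v := by
  rw [plusQF_polar, Cfsg.sympForm, Cfsg.Agent.Lib.Helper45.dotProduct_J_mulVec, CharTwo.sub_eq_add,
    Finset.sum_add_distrib, add_comm]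
  congr 1
  apply Finset.sum_congr rfl
  intro i _
  ring

/-- the symplectic group as a subgroup of `GL` -/
noncomputable def spToGL (m : ℕ) : ↥(Matrix.symplecticGroup (Fin m) F) →* GL (Fin m ⊕ Fin m) F :=
  MonoidHom.toHomUnits (Submonoid.subtype _)

theorem spToGL_coe (m : ℕ) (a : ↥(Matrix.symplecticGroup (Fin m) F)) :
    ((spToGL m a : GL (Fin m ⊕ Fin m) F) : Matrix (Fin m ⊕ Fin m) (Fin m ⊕ Fin m) F) = a := rfl

/-- in characteristic two the symplectic group is the group of the polar form of `Σ xᵢ yᵢ` -/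
noncomputable def spEquiv [CharP F 2] (m : ℕ) :
    ↥(Matrix.symplecticGroup (Fin m) F) ≃* ↥(SpL (plusQF m F)) where
  toFun a := ⟨glEquiv (spToGL m a), by
    intro x y
    rw [glEquiv_apply, glEquiv_apply, plusQF_polar_eq_symp, plusQF_polar_eq_symp, spToGL_coe]
    exact (Cfsg.Agent.Lib.Helper45.mem_symplecticGroup_iff_form _).1 a.2 x y⟩
  invFun T := ⟨((glEquiv.symm (T : (Fin m ⊕ Fin m → F) ≃ₗ[F] (Fin m ⊕ Fin m → F)) :
      GL (Fin m ⊕ Fin m) F) : Matrix (Fin m ⊕ Fin m) (Fin m ⊕ Fin m) F), by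
    rw [Cfsg.Agent.Lib.Helper45.mem_symplecticGroup_iff_form]
    intro u v
    have := T.2 u v
    rw [plusQF_polar_eq_symp, plusQF_polar_eq_symp] at this
    rw [← glEquiv_apply, ← glEquiv_apply, MulEquiv.apply_symm_apply]
    exact this⟩
  left_inv a := by
    apply Subtype.ext
    simp [spToGL_coe]
  right_inv T := by
    apply Subtype.ext
    apply LinearEquiv.ext
    intro x
    simp only [glEquiv_apply, spToGL_coe]
    rw [← glEquiv_apply, MulEquiv.apply_symm_apply]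
  map_mul' a b := by
    apply Subtype.ext
    simp

theorem spEquiv_apply [CharP F 2] (m : ℕ) (a : ↥(Matrix.symplecticGroup (Fin m) F))
    (x : Fin m ⊕ Fin m → F) :
    ((spEquiv m a : ↥(SpL (plusQF m F))) : (Fin m ⊕ Fin m → F) ≃ₗ[F] (Fin m ⊕ Fin m → F)) x
      = (a : Matrix (Fin m ⊕ Fin m) (Fin m ⊕ Fin m) F) *ᵥ x :=
  glEquiv_apply _ _

theorem card_involution_classes_sp [Fintype F] [CharP F 2] (m : ℕ) :
    Nat.card {C : ConjClasses ↥(Matrix.symplecticGroup (Fin m) F) //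
      ∃ g, ConjClasses.mk g = C ∧ orderOf g = 2} = m + m / 2 := by
  have hM : ∀ T ∈ SpL (plusQF m F), T * T = 1 → nilRank T ≤ m := by
    intro T hT h2
    have := two_mul_nilRank_le (plusQF_nondeg m F) hT h2
    simp only [finrank_fintype_fun_eq_card, Fintype.card_sum, Fintype.card_fin] at this
    omega
  refine card_involution_classes (plusQF_nondeg m F) (SpL _) (spEquiv m) le_rfl
    (isConj_SpL_iff (plusQF_nondeg m F)) m m hM (fun T hT h2 _ => hM T hT h2)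
    (fun s hs0 hs => ?_) (fun s _ hs h2 => ?_)
  · obtain ⟨T, hT, h⟩ := (plus_hypSys m F).exists_nonalt s hs0 hs
    exact ⟨T, OQ_le_SpL _ hT, h⟩
  · obtain ⟨T, hT, h⟩ := (plus_hypSys m F).exists_alt s hs h2
    exact ⟨T, OQ_le_SpL _ hT, h⟩

theorem nilRank_glEquiv {ι : Type} [Fintype ι] [DecidableEq ι] (g : GL ι F) :
    nilRank (glEquiv g) = ((g : Matrix ι ι F) - 1).rank := by
  have : ((glEquiv g : (ι → F) ≃ₗ[F] (ι → F)) : (ι → F) →ₗ[F] (ι → F)) - LinearMap.id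
      = ((g : Matrix ι ι F) - 1).mulVecLin := by
    apply LinearMap.ext
    intro x
    simp [glEquiv_apply, Matrix.sub_mulVec]
  rw [nilRank, Matrix.rank, this]

theorem nilRank_spEquiv [CharP F 2] (m : ℕ) (a : ↥(Matrix.symplecticGroup (Fin m) F)) :
    nilRank ((spEquiv m a : ↥(SpL (plusQF m F))) : (Fin m ⊕ Fin m → F) ≃ₗ[F] (Fin m ⊕ Fin m → F))
      = ((a : Matrix (Fin m ⊕ Fin m) (Fin m ⊕ Fin m) F) - 1).rank :=
  nilRank_glEquiv (spToGL m a)

theorem isAltInv_spEquiv [CharP F 2] (m : ℕ) (a : ↥(Matrix.symplecticGroup (Fin m) F)) :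
    IsAltInv (plusQF m F) (spEquiv m a : ↥(SpL (plusQF m F))) ↔
      ∀ v, Cfsg.sympForm m F v ((a : Matrix (Fin m ⊕ Fin m) (Fin m ⊕ Fin m) F) *ᵥ v) = 0 := by
  unfold IsAltInv
  simp only [spEquiv_apply, plusQF_polar_eq_symp]

theorem forall_iff_card_subtype {α : Type*} [Finite α] (P : α → Prop) :
    (∀ v, P v) ↔ Nat.card {v // P v} = Nat.card α := by
  constructor
  · intro h
    exact Nat.card_congr (Equiv.subtypeUnivEquiv h)
  · intro h v
    have hinj : Function.Injective (Subtype.val : {v // P v} → α) := Subtype.val_injective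
    have hbij := (Nat.bijective_iff_injective_and_card _).2 ⟨hinj, h⟩
    obtain ⟨w, rfl⟩ := hbij.2 v
    exact w.2

theorem sp_isConj_iff [Fintype F] [CharP F 2] (m : ℕ)
    (a b : ↥(Matrix.symplecticGroup (Fin m) F)) (ha : orderOf a = 2) (hb : orderOf b = 2) :
    IsConj a b ↔ (((a : Matrix (Fin m ⊕ Fin m) (Fin m ⊕ Fin m) F) - 1).rank
        = ((b : Matrix (Fin m ⊕ Fin m) (Fin m ⊕ Fin m) F) - 1).rank ∧
      (Even ((a : Matrix (Fin m ⊕ Fin m) (Fin m ⊕ Fin m) F) - 1).rank →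
        Nat.card {v : Fin m ⊕ Fin m → F // Cfsg.sympForm m F v
          ((a : Matrix (Fin m ⊕ Fin m) (Fin m ⊕ Fin m) F) *ᵥ v) = 0}
        = Nat.card {v : Fin m ⊕ Fin m → F // Cfsg.sympForm m F v
          ((b : Matrix (Fin m ⊕ Fin m) (Fin m ⊕ Fin m) F) *ᵥ v) = 0})) := by
  have h2 : ∀ c : ↥(Matrix.symplecticGroup (Fin m) F), orderOf c = 2 →
      spEquiv m c * spEquiv m c = 1 := by
    intro c hc
    rw [← map_mul, ← pow_two, ← hc, pow_orderOf_eq_one, map_one]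
  have key := isConj_SpL_iff (plusQF_nondeg m F) (spEquiv m a) (spEquiv m b) (h2 a ha) (h2 b hb)
  rw [← isConj_mulEquiv_iff, nilRank_spEquiv, nilRank_spEquiv, isAltInv_spEquiv,
    isAltInv_spEquiv] at key
  constructor
  · intro h
    refine ⟨(key.1 h).1, fun _ => ?_⟩
    obtain ⟨c, hc⟩ := isConj_iff.1 h
    refine Nat.card_congr (Equiv.subtypeEquiv
      ((spEquiv m c : ↥(SpL (plusQF m F))) :
        (Fin m ⊕ Fin m → F) ≃ₗ[F] (Fin m ⊕ Fin m → F)).toEquiv ?_)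
    intro v
    have h1 : (b : Matrix (Fin m ⊕ Fin m) (Fin m ⊕ Fin m) F) *ᵥ
        ((c : Matrix (Fin m ⊕ Fin m) (Fin m ⊕ Fin m) F) *ᵥ v)
        = (c : Matrix (Fin m ⊕ Fin m) (Fin m ⊕ Fin m) F) *ᵥ
          ((a : Matrix (Fin m ⊕ Fin m) (Fin m ⊕ Fin m) F) *ᵥ v) := by
      have h3 : b * c = c * a := by rw [← hc]; group
      have h4 := congrArg (fun z : ↥(Matrix.symplecticGroup (Fin m) F) =>
        (z : Matrix (Fin m ⊕ Fin m) (Fin m ⊕ Fin m) F) *ᵥ v) h3
      simpa [← Matrix.mulVec_mulVec] using h4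
    change _ ↔ Cfsg.sympForm m F (((spEquiv m c : ↥(SpL (plusQF m F))) :
        (Fin m ⊕ Fin m → F) ≃ₗ[F] (Fin m ⊕ Fin m → F)) v) (_ *ᵥ ((spEquiv m c : ↥(SpL (plusQF m F))) :
        (Fin m ⊕ Fin m → F) ≃ₗ[F] (Fin m ⊕ Fin m → F)) v) = 0
    rw [spEquiv_apply, h1, ← plusQF_polar_eq_symp, ← plusQF_polar_eq_symp, ← spEquiv_apply m c,
      ← spEquiv_apply m c, (spEquiv m c).2]
  · rintro ⟨hr, hc⟩
    refine key.2 ⟨hr, ?_⟩
    by_cases he : Even ((a : Matrix (Fin m ⊕ Fin m) (Fin m ⊕ Fin m) F) - 1).rank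
    · rw [forall_iff_card_subtype, forall_iff_card_subtype, hc he]
    · have h3 : ∀ c : ↥(Matrix.symplecticGroup (Fin m) F), orderOf c = 2 →
          ¬ Even ((c : Matrix (Fin m ⊕ Fin m) (Fin m ⊕ Fin m) F) - 1).rank →
          ¬ ∀ v, Cfsg.sympForm m F v ((c : Matrix (Fin m ⊕ Fin m) (Fin m ⊕ Fin m) F) *ᵥ v) = 0 := by
        intro c hc hne halt
        apply hne
        rw [← nilRank_spEquiv]
        exact even_nilRank_of_alt (plusQF_nondeg m F) (spEquiv m c).2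
          (congrArg Subtype.val (h2 c hc)) ((isAltInv_spEquiv m c).2 halt)
      have h4 := h3 a ha he
      have h5 := h3 b hb (by rw [← hr]; exact he)
      tauto

end Cfsg.Agent.Lib.Helper44
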