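import Cfsg.Agent.Lib.Helper44.SimilChar
import Cfsg.Agent.Lib.Helper44.D8Quot

set_option autoImplicit false

namespace Cfsg.Agent.Lib.Helper44

open QuadraticMap Module Matrix

universe u

variable {F : Type u} [Field F] {ι : Type} [Fintype ι] [DecidableEq ι]

theorem psi1_reflElt [Fintype F] (h2 : (2 : F) ≠ 0) {Q : QuadraticForm F (ι → F)}
    (hQ : (polarBilin Q).Nondegenerate)
    (hex : ∃ v, Q v ≠ 0) (m : ℕ) (hm : Fintype.card ι = 2 * m) {v : ι → F} (hv : Q v ≠ 0) :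
    psi1 h2 hQ hex m hm (ofO Q (reflElt Q v)) = (1, -1) := by
  have hmul : multF Q (ofO Q (reflElt Q v)) = 1 :=
    multF_eq_one_of_isometry hex _ (reflElt Q v).2
  rw [psi1, MonoidHom.prod_apply, Prod.mk.injEq]
  constructor
  · rw [chi1_eq_one_iff, hmul]; simp
  · rcases Int.units_eq_one_or (chi2 h2 hQ hex m hm (ofO Q (reflElt Q v))) with h | h
    · exfalso
      rw [chi2_eq_one_iff, hmul, ofO_coe, det_reflElt Q hv] at h
      apply h2
      simp at h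
      linear_combination -h
    · exact h

theorem psi1_surjective [Fintype F] (h2 : (2 : F) ≠ 0) {Q : QuadraticForm F (ι → F)}
    (hQ : (polarBilin Q).Nondegenerate)
    (hex : ∃ v, Q v ≠ 0) (m : ℕ) (hm : Fintype.card ι = 2 * m)
    (hδ : ∃ δ : ↥(Cfsg.Geo.quadSimilarityGroup ⇑Q), ¬ IsSquare (multF Q δ : F)) :
    Function.Surjective (psi1 h2 hQ hex m hm) := by
  obtain ⟨v, hv⟩ := hex
  obtain ⟨δ, hδ⟩ := hδ
  have hR := psi1_reflElt h2 hQ ⟨v, hv⟩ m hm hv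
  have hD : (psi1 h2 hQ ⟨v, hv⟩ m hm δ).1 = -1 := by
    rcases Int.units_eq_one_or (psi1 h2 hQ ⟨v, hv⟩ m hm δ).1 with h | h
    · exact absurd ((chi1_eq_one_iff Q ⟨v, hv⟩ δ).1 h) hδ
    · exact h
  set R := ofO Q (reflElt Q v)
  obtain ⟨d1, d2, hd⟩ : ∃ d1 d2, psi1 h2 hQ ⟨v, hv⟩ m hm δ = (d1, d2) := ⟨_, _, rfl⟩
  rw [hd] at hD
  simp only at hD
  subst hD
  rintro ⟨a, b⟩
  rcases Int.units_eq_one_or a with rfl | rfl <;> rcases Int.units_eq_one_or b with rfl | rfl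
  · exact ⟨1, map_one _⟩
  · exact ⟨R, hR⟩
  · rcases Int.units_eq_one_or d2 with rfl | rfl
    · exact ⟨δ, hd⟩
    · exact ⟨δ * R, by rw [map_mul, hd, hR]; rfl⟩
  · rcases Int.units_eq_one_or d2 with rfl | rfl
    · exact ⟨δ * R, by rw [map_mul, hd, hR]; rfl⟩
    · exact ⟨δ, hd⟩

theorem map_sup_ker_eq {Γ A : Type*} [Group Γ] [Group A] (c : Γ →* A) (H : Subgroup Γ) :
    (H ⊔ c.ker).map c = H.map c := by
  rw [Subgroup.map_eq_map_iff, sup_assoc, sup_idem]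

/-- `PGO / PSO` is a four-group. -/
theorem exists_hom_pgo_pso [Fintype F] (h2 : (2 : F) ≠ 0) (Q : QuadraticForm F (ι → F))
    (hQ : (polarBilin Q).Nondegenerate) (hn : 5 ≤ Fintype.card ι) (m : ℕ)
    (hm : Fintype.card ι = 2 * m)
    (hδ : ∃ δ : ↥(Cfsg.Geo.quadSimilarityGroup ⇑Q), ¬ IsSquare (multF Q δ : F)) :
    ∃ φ : ↥(Cfsg.pgoAut F ⇑Q) →* Multiplicative (ZMod 2 × ZMod 2), Function.Surjective φ ∧
      φ.ker = (Cfsg.psoAut F ⇑Q).subgroupOf (Cfsg.pgoAut F ⇑Q) := by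
  have hex : ∃ v, Q v ≠ 0 := exists_nonsingular hQ (by simp; omega)
  obtain ⟨e⟩ := nonempty_mulEquiv_klein (G := ℤˣ × ℤˣ) (by simp [Nat.card_eq_fintype_card])
    units_prod_mul_self
  have hker : (e.toMonoidHom.comp (psi1 h2 hQ hex m hm)).ker = (psi1 h2 hQ hex m hm).ker := by
    ext x
    rw [MonoidHom.mem_ker, MonoidHom.mem_ker]
    exact map_eq_one_iff e e.injective
  have h1 := exists_hom_of_range (conjPOmega ⇑Q) (e.toMonoidHom.comp (psi1 h2 hQ hex m hm))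
    (e.surjective.comp (psi1_surjective h2 hQ hex m hm hδ)) (by
      rw [hker, ker_psi1_eq h2 hQ hn hex m hm]; exact le_sup_right)
  rw [hker, ker_psi1_eq h2 hQ hn hex m hm, map_sup_ker_eq, ← psoAut_eq, ← pgoAut_eq] at h1
  exact h1

/-- `SO` inside the similarity group -/
noncomputable def SOs (Q : QuadraticForm F (ι → F)) : Subgroup ↥(Cfsg.Geo.quadSimilarityGroup ⇑Q) :=
  (Cfsg.specialIsometryGL F ⇑Q).subgroupOf (Cfsg.Geo.quadSimilarityGroup ⇑Q)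

/-- `Ω` inside the similarity group -/
noncomputable def Oms (Q : QuadraticForm F (ι → F)) : Subgroup ↥(Cfsg.Geo.quadSimilarityGroup ⇑Q) :=
  (omegaGL' ⇑Q).subgroupOf (Cfsg.Geo.quadSimilarityGroup ⇑Q)

theorem mem_Oms {Q : QuadraticForm F (ι → F)} {g : ↥(Cfsg.Geo.quadSimilarityGroup ⇑Q)} :
    g ∈ Oms Q ↔ ∃ s : ↥(Cfsg.isometryGroup F ⇑Q), s ∈ Cfsg.Omega F ⇑Q ∧ (s : GL ι F) = (g : GL ι F) := by
  rw [Oms, Subgroup.mem_subgroupOf, omegaGL', Subgroup.mem_map]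
  rfl

theorem ofO_mem_Oms {Q : QuadraticForm F (ι → F)} {s : ↥(Cfsg.isometryGroup F ⇑Q)} :
    ofO Q s ∈ Oms Q ↔ s ∈ Cfsg.Omega F ⇑Q := by
  rw [mem_Oms]
  constructor
  · rintro ⟨s', hs', h⟩
    have : s' = s := Subtype.ext h
    rwa [← this]
  · intro h; exact ⟨s, h, rfl⟩

theorem specialIsometryGL_eq_map (Qf : (ι → F) → F) : Cfsg.specialIsometryGL F Qf =
    (Cfsg.specialIsometryGroup F Qf).map (Cfsg.isometryGroup F Qf).subtype := by
  ext g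
  constructor
  · rintro ⟨h1, h2⟩
    exact ⟨⟨g, h1⟩, h2, rfl⟩
  · rintro ⟨s, hs, rfl⟩
    exact ⟨s.2, hs⟩

theorem ofO_mem_SOs {Q : QuadraticForm F (ι → F)} {s : ↥(Cfsg.isometryGroup F ⇑Q)} :
    ofO Q s ∈ SOs Q ↔ s ∈ Cfsg.specialIsometryGroup F ⇑Q := by
  rw [SOs, Subgroup.mem_subgroupOf, specialIsometryGL_eq_map, Subgroup.mem_map]
  constructor
  · rintro ⟨s', hs', h⟩
    have : s' = s := Subtype.ext h
    rwa [← this]
  · intro h; exact ⟨s, h, rfl⟩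

theorem exists_ofO_of_mem_SOs {Q : QuadraticForm F (ι → F)}
    {g : ↥(Cfsg.Geo.quadSimilarityGroup ⇑Q)} (hg : g ∈ SOs Q) :
    ∃ s : ↥(Cfsg.isometryGroup F ⇑Q), s ∈ Cfsg.specialIsometryGroup F ⇑Q ∧ ofO Q s = g := by
  rw [SOs, Subgroup.mem_subgroupOf, specialIsometryGL_eq_map, Subgroup.mem_map] at hg
  obtain ⟨s, hs, h⟩ := hg
  exact ⟨s, hs, Subtype.ext h⟩

theorem Oms_le_SOs (Q : QuadraticForm F (ι → F)) : Oms Q ≤ SOs Q := by
  intro g hg
  obtain ⟨s, hs, h⟩ := mem_Oms.1 hg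
  have : g = ofO Q s := Subtype.ext h.symm
  rw [this, ofO_mem_SOs]
  exact Omega_le_specialIsometryGroup _ hs

theorem relIndex_Oms_SOs [Fintype F] (Q : QuadraticForm F (ι → F))
    (hQ : (polarBilin Q).Nondegenerate) (h : Fintype.card F ≠ 2 ∨ Fintype.card ι ≠ 4)
    (hn : 2 ≤ Fintype.card ι) : (Oms Q).relIndex (SOs Q) = 2 := by
  have hle : Cfsg.specialIsometryGL F ⇑Q ≤ Cfsg.Geo.quadSimilarityGroup ⇑Q :=
    inf_le_left.trans (isometryGroup_le_quadSimilarityGroup ⇑Q)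
  rw [Oms, SOs, Subgroup.relIndex_subgroupOf hle, specialIsometryGL_eq_map,
    omegaGL', Subgroup.relIndex_map_map_of_injective _ _ (Subgroup.subtype_injective _)]
  exact index_Omega Q hQ h hn

instance Oms_normal (Q : QuadraticForm F (ι → F)) : (Oms Q).Normal := by
  constructor
  intro n hn g
  obtain ⟨s, hs, h⟩ := mem_Oms.1 hn
  obtain ⟨s', hs'⟩ := exists_conj_Omega ⇑Q g ⟨s, hs⟩
  rw [mem_Oms]
  refine ⟨s', s'.2, ?_⟩
  rw [hs']
  simp [h]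

/-- `-1` as an isometry -/
noncomputable def negOneO (Q : QuadraticForm F (ι → F)) : ↥(Cfsg.isometryGroup F ⇑Q) :=
  ⟨-1, by rw [mem_isometryGroup]; intro u; simp [Matrix.neg_mulVec]⟩

theorem negOneO_coe (Q : QuadraticForm F (ι → F)) :
    ((negOneO Q : GL ι F) : Matrix ι ι F) = -1 := by
  simp [negOneO]

theorem scalar_isometry_eq {Q : QuadraticForm F (ι → F)} (hex : ∃ v, Q v ≠ 0)
    {z : GL ι F} (hz : z ∈ Cfsg.isometryGroup F ⇑Q) {μ : F}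
    (hμ : (z : Matrix ι ι F) = μ • (1 : Matrix ι ι F)) : μ = 1 ∨ μ = -1 := by
  obtain ⟨x, hx⟩ := hex
  have h1 := mem_isometryGroup.1 hz x
  rw [hμ, Matrix.smul_mulVec, Matrix.one_mulVec, QuadraticMap.map_smul, smul_eq_mul] at h1
  have h2 : μ * μ = 1 := by
    have : (μ * μ - 1) * Q x = 0 := by linear_combination h1
    rcases mul_eq_zero.1 this with h | h
    · linear_combination h
    · exact absurd h hx
  exact mul_self_eq_one_iff.1 h2

/-- if `-1 ∈ Ω` then `(Ω Z) ∩ SO = Ω` -/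
theorem sup_ker_inf_SOs [Fintype F] (h2 : (2 : F) ≠ 0) (Q : QuadraticForm F (ι → F))
    (hQ : (polarBilin Q).Nondegenerate) (hn : 5 ≤ Fintype.card ι)
    (hneg : negOneO Q ∈ Cfsg.Omega F ⇑Q) :
    (Oms Q ⊔ (conjPOmega ⇑Q).ker) ⊓ SOs Q = Oms Q := by
  have hex : ∃ v, Q v ≠ 0 := exists_nonsingular hQ (by simp; omega)
  apply le_antisymm
  · rintro g ⟨hg1, hg2⟩
    obtain ⟨y, hy, z, hz, rfl⟩ := Subgroup.mem_sup_of_normal_right.1 hg1
    obtain ⟨μ, hμ⟩ := (mem_ker_conjPOmega_iff h2 Q hQ hn z).1 hz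
    have hzO : (z : GL ι F) ∈ Cfsg.isometryGroup F ⇑Q := by
      have h3 : z = y⁻¹ * (y * z) := by group
      have h4 : y⁻¹ * (y * z) ∈ SOs Q := mul_mem (inv_mem (Oms_le_SOs Q hy)) hg2
      rw [← h3] at h4
      exact h4.1
    rcases scalar_isometry_eq hex hzO hμ with rfl | rfl
    · have : z = 1 := by
        apply Subtype.ext; apply Units.ext; rw [hμ]; simp
      rw [this, mul_one]; exact hy
    · have : z = ofO Q (negOneO Q) := by
        apply Subtype.ext; apply Units.ext; rw [hμ, ofO_coe, negOneO_coe]; simp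
      rw [this]
      exact mul_mem hy (ofO_mem_Oms.2 hneg)
  · exact le_inf le_sup_left (Oms_le_SOs Q)

theorem relIndex_sup_ker [Fintype F] (h2 : (2 : F) ≠ 0) (Q : QuadraticForm F (ι → F))
    (hQ : (polarBilin Q).Nondegenerate) (hn : 5 ≤ Fintype.card ι)
    (hneg : negOneO Q ∈ Cfsg.Omega F ⇑Q) :
    (Oms Q ⊔ (conjPOmega ⇑Q).ker).relIndex (SOs Q ⊔ (conjPOmega ⇑Q).ker) = 2 := by
  have e : SOs Q ⊔ (conjPOmega ⇑Q).ker = SOs Q ⊔ (Oms Q ⊔ (conjPOmega ⇑Q).ker) := by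
    rw [← sup_assoc, sup_eq_left.2 (Oms_le_SOs Q)]
  rw [e, Subgroup.relIndex_sup_right, ← Subgroup.inf_relIndex_right,
    sup_ker_inf_SOs h2 Q hQ hn hneg]
  exact relIndex_Oms_SOs Q hQ (Or.inr (by omega)) (by omega)

theorem negOneO_mem_special (Q : QuadraticForm F (ι → F)) (m : ℕ) (hm : Fintype.card ι = 2 * m) :
    negOneO Q ∈ Cfsg.specialIsometryGroup F ⇑Q := by
  rw [mem_specialIsometryGroup, negOneO_coe, Matrix.det_neg, hm, Matrix.det_one, mul_one]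
  exact Even.neg_one_pow ⟨m, by ring⟩

/-- if `-1 ∉ Ω` then `SO ≤ Ω Z` -/
theorem SOs_le_sup_ker [Fintype F] (h2 : (2 : F) ≠ 0) (Q : QuadraticForm F (ι → F))
    (hQ : (polarBilin Q).Nondegenerate) (hn : 5 ≤ Fintype.card ι) (m : ℕ)
    (hm : Fintype.card ι = 2 * m) (hneg : negOneO Q ∉ Cfsg.Omega F ⇑Q) :
    SOs Q ≤ Oms Q ⊔ (conjPOmega ⇑Q).ker := by
  intro g hg
  obtain ⟨s, hs, rfl⟩ := exists_ofO_of_mem_SOs hg
  by_cases hsO : s ∈ Cfsg.Omega F ⇑Q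
  · exact Subgroup.mem_sup_left (ofO_mem_Oms.2 hsO)
  · have h3 := (mul_mem_iff_of_relIndex_two (index_Omega Q hQ (Or.inr (by omega)) (by omega)) hs
      (negOneO_mem_special Q m hm)).2 (by tauto)
    have h4 : ofO Q s = ofO Q (s * negOneO Q) * ofO Q (negOneO Q) := by
      rw [← map_mul, mul_assoc]
      have : negOneO Q * negOneO Q = 1 := by
        apply isometryGroup_ext
        simp [negOneO_coe]
      rw [this, mul_one]
    rw [h4]
    refine mul_mem (Subgroup.mem_sup_left (ofO_mem_Oms.2 h3)) (Subgroup.mem_sup_right ?_)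
    rw [mem_ker_conjPOmega_iff h2 Q hQ hn]
    exact ⟨-1, by rw [ofO_coe, negOneO_coe]; simp⟩

theorem inn_eq' (Q : QuadraticForm F (ι → F)) :
    Cfsg.Inn (Cfsg.POmega F ⇑Q) = (Oms Q).map (conjPOmega ⇑Q) := inn_eq ⇑Q

theorem psoAut_eq' (Q : QuadraticForm F (ι → F)) :
    Cfsg.psoAut F ⇑Q = (SOs Q).map (conjPOmega ⇑Q) := psoAut_eq ⇑Q

/-- index of `Inn(PΩ)` in the image of `SO` -/
theorem relIndex_inn_pso [Fintype F] (h2 : (2 : F) ≠ 0) (Q : QuadraticForm F (ι → F))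
    (hQ : (polarBilin Q).Nondegenerate) (hn : 5 ≤ Fintype.card ι) (m : ℕ)
    (hm : Fintype.card ι = 2 * m) :
    (negOneO Q ∈ Cfsg.Omega F ⇑Q →
      (Cfsg.Inn (Cfsg.POmega F ⇑Q)).relIndex (Cfsg.psoAut F ⇑Q) = 2) ∧
    (negOneO Q ∉ Cfsg.Omega F ⇑Q →
      (Cfsg.Inn (Cfsg.POmega F ⇑Q)).relIndex (Cfsg.psoAut F ⇑Q) = 1) := by
  rw [inn_eq', psoAut_eq', Subgroup.relIndex_map_map]
  constructor
  · exact relIndex_sup_ker h2 Q hQ hn
  · intro hneg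
    rw [Subgroup.relIndex_eq_one]
    exact sup_le (SOs_le_sup_ker h2 Q hQ hn m hm hneg) le_sup_right

end Cfsg.Agent.Lib.Helper44
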