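import Mathlib
import Cfsg.Agent.Lib.Helper44.SimilQuot
import Cfsg.Agent.S0790
import Cfsg.Agent.S0791

set_option autoImplicit false
open Cfsg QuadraticMap Module Matrix

namespace Cfsg.Agent.Lib.Helper44

variable {F : Type*} [Field F]

theorem negOneO_mem_iff {ι : Type} [Fintype ι] [DecidableEq ι] (Q : QuadraticForm F (ι → F)) :
    negOneO Q ∈ Cfsg.Omega F ⇑Q ↔ ∃ g : ↥(Cfsg.isometryGroup F ⇑Q), g ∈ Cfsg.Omega F ⇑Q ∧
      ((g : GL ι F) : Matrix ι ι F) = -1 := by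
  constructor
  · intro h; exact ⟨_, h, negOneO_coe Q⟩
  · rintro ⟨g, hg, h⟩
    have : g = negOneO Q := by
      apply isometryGroup_ext
      rw [h, negOneO_coe]
    rwa [← this]

theorem pow_mod_four_eq_one_iff {q : ℕ} (hq : Odd q) (m : ℕ) :
    q ^ m % 4 = 1 ↔ ¬ (Odd m ∧ q % 4 = 3) := by
  have h13 : q % 4 = 1 ∨ q % 4 = 3 := by
    obtain ⟨k, rfl⟩ := hq; omega
  rcases h13 with h | h
  · have : q ^ m % 4 = 1 := by
      rw [Nat.pow_mod, h]; simp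
    simp [this, h]
  · rcases Nat.even_or_odd m with ⟨k, rfl⟩ | ⟨k, rfl⟩
    · have : q ^ (k + k) % 4 = 1 := by
        rw [← two_mul, pow_mul, Nat.pow_mod, Nat.pow_mod q 2, h]; simp
      simp [this]
    · have : q ^ (2 * k + 1) % 4 = 3 := by
        rw [pow_succ, pow_mul, Nat.mul_mod, Nat.pow_mod, Nat.pow_mod q 2, h]; simp
      simp [this, h]

theorem pow_mod_four_eq_three_iff {q : ℕ} (hq : Odd q) (m : ℕ) :
    q ^ (m + 1) % 4 = 3 ↔ (Even m ∧ q % 4 = 3) := by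
  have h1 := pow_mod_four_eq_one_iff hq (m + 1)
  have h13 : q ^ (m + 1) % 4 = 1 ∨ q ^ (m + 1) % 4 = 3 := by
    obtain ⟨k, hk⟩ := hq.pow (n := m + 1); omega
  have h2 : Odd (m + 1) ↔ Even m := by
    rw [Nat.odd_add_one, Nat.not_odd_iff_even]
  rw [h2] at h1
  constructor
  · intro h
    by_contra hc
    have := h1.2 hc
    omega
  · intro h
    rcases h13 with h3 | h3
    · exact absurd h (h1.1 h3)
    · exact h3

theorem plus_negOneO_mem_iff [Fintype F] (hodd : Odd (Fintype.card F)) (m : ℕ) (hm : 1 ≤ m) :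
    negOneO (plusQF m F) ∈ Cfsg.Omega F ⇑(plusQF m F) ↔ ¬ (Odd m ∧ Fintype.card F % 4 = 3) := by
  rw [negOneO_mem_iff, ← pow_mod_four_eq_one_iff hodd m]
  have := Cfsg.Agent.S0790.result (F := F) rfl hodd m hm
  rw [← plusQF_coe] at this
  exact this

theorem minus_negOneO_mem_iff [Fintype F] (hodd : Odd (Fintype.card F)) (m : ℕ) (a b : F)
    (hab : ∀ z₁ z₂ : F, z₁ ^ 2 + a * z₁ * z₂ + b * z₂ ^ 2 = 0 → z₁ = 0 ∧ z₂ = 0) :
    negOneO (minusQF m F a b) ∈ Cfsg.Omega F ⇑(minusQF m F a b) ↔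
      (Even m ∧ Fintype.card F % 4 = 3) := by
  rw [negOneO_mem_iff, ← pow_mod_four_eq_three_iff hodd m]
  have : (∃ g : ↥(Cfsg.isometryGroup F (Cfsg.quadFormMinus m F a b)),
    g ∈ Cfsg.Omega F (Cfsg.quadFormMinus m F a b) ∧
      ((g : GL ((Fin m ⊕ Fin m) ⊕ Fin 2) F) : Matrix ((Fin m ⊕ Fin m) ⊕ Fin 2) ((Fin m ⊕ Fin m) ⊕ Fin 2) F) = -1) ↔ Fintype.card F ^ (m + 1) % 4 = 3 :=
    Cfsg.Agent.S0791.result (F := F) rfl hodd (m + 1) (by omega) a b hab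
  rw [← minusQF_coe] at this
  exact this

end Cfsg.Agent.Lib.Helper44
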