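import Cfsg.Agent.Lib.Helper44.Index
import Cfsg.Agent.Lib.Helper44.Transport
import Cfsg.Agent.Lib.Helper44.StdForms

set_option autoImplicit false

namespace Cfsg.Agent.Lib.Helper44

open QuadraticMap Module Matrix

variable {F : Type*} [Field F] {ι : Type} [Fintype ι] [DecidableEq ι]

theorem rank_sub_one_add_finrank_fixSp (g : GL ι F) :
    ((g : Matrix ι ι F) - 1).rank + finrank F (fixSp (glEquiv g)) = Fintype.card ι := by
  have h1 : (glEquiv g).toLinearMap - LinearMap.id = Matrix.mulVecLin ((g : Matrix ι ι F) - 1) := by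
    apply LinearMap.ext
    intro x
    simp [glEquiv_apply]
  rw [Matrix.rank, fixSp, h1, LinearMap.finrank_range_add_finrank_ker]
  simp

/-- characteristic two: `g ∈ Ω` iff `g - 1` has even rank. -/
theorem mem_Omega_iff_even_rank [Fintype F] [CharP F 2] (Q : QuadraticForm F (ι → F))
    (hQ : (polarBilin Q).Nondegenerate) (h : Fintype.card F ≠ 2 ∨ Fintype.card ι ≠ 4)
    (g : ↥(Cfsg.isometryGroup F ⇑Q)) :
    g ∈ Cfsg.Omega F ⇑Q ↔ Even (((g : GL ι F) : Matrix ι ι F) - 1).rank := by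
  rw [mem_Omega_iff, ← ker_parityChar_char_two hQ (gen_hyp h), MonoidHom.mem_ker,
    parityChar_apply, neg_one_pow_eq_one_iff_even]
  have h1 := rank_sub_one_add_finrank_fixSp (g : GL ι F)
  have h2 : finrank F (ι → F) = Fintype.card ι := by simp
  have h3 : ((isoEquiv Q g : ↥(OQ Q)) : (ι → F) ≃ₗ[F] (ι → F)) = glEquiv (g : GL ι F) := rfl
  rw [h2, h3, ← h1, Nat.even_add, Nat.even_add]
  tauto

end Cfsg.Agent.Lib.Helper44
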