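import Cfsg.Agent.Lib.Helper44.ConjAut
import Cfsg.Agent.Lib.Helper44.CenterOmega
import Cfsg.Agent.Lib.Helper44.GroupQuot

set_option autoImplicit false

namespace Cfsg.Agent.Lib.Helper44

open QuadraticMap Module Matrix

universe u

variable {F : Type u} [Field F] {ι : Type} [Fintype ι] [DecidableEq ι]

/-- the multiplier of a similarity -/
noncomputable def multF (Q : QuadraticForm F (ι → F))
    (g : ↥(Cfsg.Geo.quadSimilarityGroup ⇑Q)) : Fˣ := Classical.choose g.2

theorem multF_spec (Q : QuadraticForm F (ι → F)) (g : ↥(Cfsg.Geo.quadSimilarityGroup ⇑Q))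
    (v : ι → F) : Q (((g : GL ι F) : Matrix ι ι F) *ᵥ v) = (multF Q g : F) * Q v :=
  Classical.choose_spec g.2 v

theorem multF_unique {Q : QuadraticForm F (ι → F)} (hex : ∃ v, Q v ≠ 0)
    (g : ↥(Cfsg.Geo.quadSimilarityGroup ⇑Q)) (c : Fˣ)
    (hc : ∀ v, Q (((g : GL ι F) : Matrix ι ι F) *ᵥ v) = (c : F) * Q v) : multF Q g = c := by
  obtain ⟨v, hv⟩ := hex
  apply Units.ext
  have h1 := multF_spec Q g v
  rw [hc v] at h1
  exact (mul_right_cancel₀ hv h1).symm

/-- the multiplier as a homomorphism -/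
noncomputable def multHom (Q : QuadraticForm F (ι → F)) (hex : ∃ v, Q v ≠ 0) :
    ↥(Cfsg.Geo.quadSimilarityGroup ⇑Q) →* Fˣ where
  toFun := multF Q
  map_one' := multF_unique hex 1 1 (fun v => by simp)
  map_mul' a b := multF_unique hex (a * b) _ (fun v => by
    rw [Subgroup.coe_mul, Units.val_mul, ← Matrix.mulVec_mulVec, multF_spec, multF_spec,
      Units.val_mul, mul_assoc])

theorem multHom_apply (Q : QuadraticForm F (ι → F)) (hex : ∃ v, Q v ≠ 0)
    (g : ↥(Cfsg.Geo.quadSimilarityGroup ⇑Q)) : multHom Q hex g = multF Q g := rfl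

theorem polar_mulVec_simil (Q : QuadraticForm F (ι → F)) (g : ↥(Cfsg.Geo.quadSimilarityGroup ⇑Q))
    (x y : ι → F) : polar Q (((g : GL ι F) : Matrix ι ι F) *ᵥ x) (((g : GL ι F) : Matrix ι ι F) *ᵥ y)
      = (multF Q g : F) * polar Q x y := by
  simp only [polar, ← Matrix.mulVec_add, multF_spec]
  ring

theorem det_sq_simil {Q : QuadraticForm F (ι → F)} (hQ : (polarBilin Q).Nondegenerate)
    (g : ↥(Cfsg.Geo.quadSimilarityGroup ⇑Q)) :
    ((g : GL ι F) : Matrix ι ι F).det ^ 2 = (multF Q g : F) ^ Fintype.card ι := by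
  set M := ((g : GL ι F) : Matrix ι ι F) with hM
  have h1 : LinearMap.BilinForm.comp (polarBilin Q) (Matrix.toLin' M) (Matrix.toLin' M)
      = (multF Q g : F) • polarBilin Q := by
    apply LinearMap.ext
    intro x
    apply LinearMap.ext
    intro y
    rw [LinearMap.BilinForm.comp_apply, Matrix.toLin'_apply, Matrix.toLin'_apply,
      polarBilin_apply_apply, LinearMap.smul_apply, LinearMap.smul_apply, polarBilin_apply_apply,
      smul_eq_mul]
    exact polar_mulVec_simil Q g _ _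
  have h2 := congrArg (fun B => (LinearMap.BilinForm.toMatrix' B).det) h1
  simp only [LinearMap.BilinForm.toMatrix'_comp, LinearMap.toMatrix'_toLin', map_smul,
    Matrix.det_mul, Matrix.det_transpose, Matrix.det_smul] at h2
  have h3 : (LinearMap.BilinForm.toMatrix' (polarBilin Q)).det ≠ 0 := by
    rw [← Matrix.nondegenerate_iff_det_ne_zero]
    exact LinearMap.BilinForm.Nondegenerate.toMatrix' hQ
  apply mul_right_cancel₀ h3
  rw [← h2]; ring

/-- the scalar similarity -/
noncomputable def scalSimil (Q : QuadraticForm F (ι → F)) (μ : Fˣ) :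
    ↥(Cfsg.Geo.quadSimilarityGroup ⇑Q) :=
  ⟨Matrix.GeneralLinearGroup.scalar ι μ, ⟨μ * μ, fun v => by
    simp [QuadraticMap.map_smul]⟩⟩

theorem scalSimil_coe (Q : QuadraticForm F (ι → F)) (μ : Fˣ) :
    ((scalSimil Q μ : GL ι F) : Matrix ι ι F) = (μ : F) • (1 : Matrix ι ι F) := by
  simp [scalSimil, Matrix.smul_one_eq_diagonal]

theorem eichlerElt_half_mul_self (h2 : (2 : F) ≠ 0) (Q : QuadraticForm F (ι → F)) (u v : ι → F)
    (hu : Q u = 0) (huv : polar Q u v = 0) (huw : polar Q u ((2⁻¹ : F) • v) = 0) :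
    ((eichlerElt Q u ((2⁻¹ : F) • v) hu huw : GL ι F) : Matrix ι ι F)
      * ((eichlerElt Q u ((2⁻¹ : F) • v) hu huw : GL ι F) : Matrix ι ι F)
      = ((eichlerElt Q u v hu huv : GL ι F) : Matrix ι ι F) := by
  apply matrix_ext_mulVec
  intro x
  rw [← Matrix.mulVec_mulVec, eichlerElt_mulVec, eichlerElt_mulVec, eichlerElt_mulVec,
    eichler_eq_lin, eichler_eq_lin, eichler_eq_lin, eichlerLin_comp Q hu huw huw]
  congr 1
  rw [← add_smul]
  have : (2⁻¹ : F) + 2⁻¹ = 1 := by field_simp; norm_num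
  rw [this, one_smul]

theorem mem_ker_conjPOmega_iff [Fintype F] (h2 : (2 : F) ≠ 0) (Q : QuadraticForm F (ι → F))
    (hQ : (polarBilin Q).Nondegenerate) (hn : 5 ≤ Fintype.card ι)
    (g : ↥(Cfsg.Geo.quadSimilarityGroup ⇑Q)) :
    g ∈ (conjPOmega ⇑Q).ker ↔ ∃ μ : F, ((g : GL ι F) : Matrix ι ι F) = μ • (1 : Matrix ι ι F) := by
  constructor
  · intro hg
    rw [MonoidHom.mem_ker] at hg
    apply matrix_eq_smul_of_commute Q hQ hn
    intro u v hu huv
    have huw : polar Q u ((2⁻¹ : F) • v) = 0 := by rw [polar_smul_right, huv, smul_zero]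
    set t : ↥(Cfsg.Omega F ⇑Q) := ⟨eichlerElt Q u ((2⁻¹ : F) • v) hu huw,
      eichlerElt_mem_Omega Q hQ hn u _ hu huw⟩ with ht
    obtain ⟨t', ht'⟩ := exists_conj_Omega ⇑Q g t
    have h3 : (QuotientGroup.mk t' : Cfsg.POmega F ⇑Q) = QuotientGroup.mk t := by
      rw [← conjPOmega_apply_mk _ g t t' ht', hg]; rfl
    rw [QuotientGroup.eq, mem_center_Omega_iff Q hQ hn] at h3
    set M := ((g : GL ι F) : Matrix ι ι F) with hM
    set Mi := (((g : GL ι F)⁻¹ : GL ι F) : Matrix ι ι F) with hMi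
    set T := ((eichlerElt Q u ((2⁻¹ : F) • v) hu huw : GL ι F) : Matrix ι ι F) with hT
    have hMM : Mi * M = 1 := by rw [hM, hMi, ← Units.val_mul, inv_mul_cancel]; rfl
    have hT' : (((t' : ↥(Cfsg.isometryGroup F ⇑Q)) : GL ι F) : Matrix ι ι F) = M * T * Mi := by
      rw [ht']; simp [hM, hMi, hT, ht]
    have hinv : (((t' : ↥(Cfsg.isometryGroup F ⇑Q)) : GL ι F) : Matrix ι ι F)
        * ((((t'⁻¹ * t : ↥(Cfsg.Omega F ⇑Q)) : ↥(Cfsg.isometryGroup F ⇑Q)) : GL ι F) : Matrix ι ι F)
        = T := by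
      simp only [Subgroup.coe_mul, Units.val_mul, InvMemClass.coe_inv]
      rw [← mul_assoc, ← Units.val_mul, mul_inv_cancel]
      simp [hT, ht]
    have hsq : (M * T * Mi) * (M * T * Mi) = T * T := by
      rcases h3 with h3 | h3
      · rw [h3, mul_one, hT'] at hinv
        rw [hinv]
      · rw [h3, hT'] at hinv
        have : M * T * Mi = -T := by
          rw [mul_neg, mul_one] at hinv
          exact neg_eq_iff_eq_neg.1 hinv
        rw [this]; simp
    rw [← eichlerElt_half_mul_self h2 Q u v hu huv huw, ← hT]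
    have h5 : (M * T * Mi) * (M * T * Mi) = M * (T * T) * Mi := by
      calc (M * T * Mi) * (M * T * Mi) = M * T * (Mi * M) * T * Mi := by noncomm_ring
        _ = M * (T * T) * Mi := by rw [hMM]; noncomm_ring
    rw [h5] at hsq
    calc M * (T * T) = M * (T * T) * (Mi * M) := by rw [hMM, mul_one]
      _ = (M * (T * T) * Mi) * M := by noncomm_ring
      _ = T * T * M := by rw [hsq]
  · rintro ⟨μ, hμ⟩
    rw [MonoidHom.mem_ker]
    ext x
    induction x using QuotientGroup.induction_on with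
    | H s =>
      rw [conjPOmega_apply_mk _ g s s ?_]
      · rfl
      · have hc : (g : GL ι F) * ((s : ↥(Cfsg.isometryGroup F ⇑Q)) : GL ι F)
            = ((s : ↥(Cfsg.isometryGroup F ⇑Q)) : GL ι F) * (g : GL ι F) := by
          apply Units.ext
          rw [Units.val_mul, Units.val_mul, hμ]
          simp
        rw [hc, mul_assoc, mul_inv_cancel, mul_one]

end Cfsg.Agent.Lib.Helper44
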