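import Cfsg.Agent.Lib.Helper44.SimilQuot

set_option autoImplicit false

namespace Cfsg.Agent.Lib.Helper44

open QuadraticMap Module Matrix

universe u

variable {F : Type u} [Field F] {ι : Type} [Fintype ι] [DecidableEq ι]

theorem conj_ofO_reflElt (Q : QuadraticForm F (ι → F)) (δ : ↥(Cfsg.Geo.quadSimilarityGroup ⇑Q))
    (v : ι → F) :
    δ * ofO Q (reflElt Q v) * δ⁻¹ = ofO Q (reflElt Q (((δ : GL ι F) : Matrix ι ι F) *ᵥ v)) := by
  rw [mul_inv_eq_iff_eq_mul]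
  apply Subtype.ext; apply Units.ext
  simp only [Subgroup.coe_mul, Units.val_mul, ofO_coe, reflElt_coe]
  apply matrix_ext_mulVec
  intro x
  rw [← mulVec_mulVec, ← mulVec_mulVec, reflectionMatrix_mulVec, reflectionMatrix_mulVec,
    refl_apply, refl_apply, multF_spec, polar_mulVec_simil, mulVec_sub, mulVec_smul]
  congr 2
  have hl : (multF Q δ : F) ≠ 0 := Units.ne_zero _
  rw [mul_inv]
  field_simp

theorem ker_psi1_eq' [Fintype F] (h2 : (2 : F) ≠ 0) {Q : QuadraticForm F (ι → F)}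
    (hQ : (polarBilin Q).Nondegenerate) (hn : 5 ≤ Fintype.card ι)
    (hex : ∃ v, Q v ≠ 0) (m : ℕ) (hm : Fintype.card ι = 2 * m) :
    (psi1 h2 hQ hex m hm).ker = SOs Q ⊔ (conjPOmega ⇑Q).ker := ker_psi1_eq h2 hQ hn hex m hm

/-- `PGO / Inn` is dihedral of order `8` when `-1 ∈ Ω`. -/
theorem exists_hom_pgo_inn_dihedral [Fintype F] (h2 : (2 : F) ≠ 0) (Q : QuadraticForm F (ι → F))
    (hQ : (polarBilin Q).Nondegenerate) (hn : 5 ≤ Fintype.card ι) (m : ℕ)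
    (hm : Fintype.card ι = 2 * m)
    (hδ : ∃ δ : ↥(Cfsg.Geo.quadSimilarityGroup ⇑Q), ¬ IsSquare (multF Q δ : F))
    (hneg : negOneO Q ∈ Cfsg.Omega F ⇑Q) :
    ∃ φ : ↥(Cfsg.pgoAut F ⇑Q) →* DihedralGroup 4, Function.Surjective φ ∧
      φ.ker = (Cfsg.Inn (Cfsg.POmega F ⇑Q)).subgroupOf (Cfsg.pgoAut F ⇑Q) := by
  have hex : ∃ v, Q v ≠ 0 := exists_nonsingular hQ (by simp; omega)
  have hsurj := psi1_surjective h2 hQ hex m hm hδ
  obtain ⟨v, hv⟩ := hex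
  obtain ⟨δ, hδ⟩ := hδ
  have hD : (psi1 h2 hQ ⟨v, hv⟩ m hm δ).1 = -1 := by
    rcases Int.units_eq_one_or (psi1 h2 hQ ⟨v, hv⟩ m hm δ).1 with h | h
    · exact absurd ((chi1_eq_one_iff Q ⟨v, hv⟩ δ).1 h) hδ
    · exact h
  have hRD : ofO Q (reflElt Q v) * (δ * ofO Q (reflElt Q v) * δ⁻¹)
      ∉ Oms Q ⊔ (conjPOmega ⇑Q).ker := by
    intro hmem
    rw [conj_ofO_reflElt, ← map_mul] at hmem
    have hv' : Q (((δ : GL ι F) : Matrix ι ι F) *ᵥ v) ≠ 0 := by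
      rw [multF_spec]; exact mul_ne_zero (Units.ne_zero _) hv
    have hcrit := mem_Omega_iff_of_prod_odd h2 Q hQ
      (reflElt Q v * reflElt Q (((δ : GL ι F) : Matrix ι ι F) *ᵥ v))
      [v, ((δ : GL ι F) : Matrix ι ι F) *ᵥ v] (by
        intro w hw
        simp only [List.mem_cons, List.not_mem_nil, or_false] at hw
        rcases hw with rfl | rfl
        · exact hv
        · exact hv') (by simp [reflElt_coe])
    have hSO : ofO Q (reflElt Q v * reflElt Q (((δ : GL ι F) : Matrix ι ι F) *ᵥ v)) ∈ SOs Q := by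
      rw [ofO_mem_SOs, mem_specialIsometryGroup, Subgroup.coe_mul, Units.val_mul, Matrix.det_mul,
        det_reflElt Q hv, det_reflElt Q hv']
      ring
    have h3 : ofO Q (reflElt Q v * reflElt Q (((δ : GL ι F) : Matrix ι ι F) *ᵥ v)) ∈ Oms Q := by
      rw [← sup_ker_inf_SOs h2 Q hQ hn hneg]
      exact ⟨hmem, hSO⟩
    rw [ofO_mem_Oms, hcrit] at h3
    obtain ⟨-, r, hr⟩ := h3
    simp only [List.map_cons, List.map_nil, List.prod_cons, List.prod_nil, mul_one,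
      multF_spec] at hr
    apply hδ
    refine ⟨r / Q v, ?_⟩
    field_simp
    linear_combination hr
  obtain ⟨e⟩ := nonempty_mulEquiv_dihedral_of (Oms Q ⊔ (conjPOmega ⇑Q).ker)
    (psi1 h2 hQ ⟨v, hv⟩ m hm) hsurj
    (by rw [ker_psi1_eq' h2 hQ hn]; exact sup_le_sup_right (Oms_le_SOs Q) _)
    (by rw [ker_psi1_eq' h2 hQ hn]; exact relIndex_sup_ker h2 Q hQ hn hneg)
    (ofO Q (reflElt Q v)) δ (by rw [← map_mul, reflElt_mul_self, map_one])
    (psi1_reflElt h2 hQ ⟨v, hv⟩ m hm hv) hD hRD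
  have h1 := exists_hom_of_range_quot (conjPOmega ⇑Q) (Oms Q ⊔ (conjPOmega ⇑Q).ker) le_sup_right e
  rw [map_sup_ker_eq, ← inn_eq', ← pgoAut_eq] at h1
  exact h1

theorem psoAut_eq_inn [Fintype F] (h2 : (2 : F) ≠ 0) (Q : QuadraticForm F (ι → F))
    (hQ : (polarBilin Q).Nondegenerate) (hn : 5 ≤ Fintype.card ι) (m : ℕ)
    (hm : Fintype.card ι = 2 * m) (hneg : negOneO Q ∉ Cfsg.Omega F ⇑Q) :
    Cfsg.psoAut F ⇑Q = Cfsg.Inn (Cfsg.POmega F ⇑Q) := by
  rw [psoAut_eq', inn_eq', Subgroup.map_eq_map_iff]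
  exact le_antisymm (sup_le (SOs_le_sup_ker h2 Q hQ hn m hm hneg) le_sup_right)
    (sup_le_sup_right (Oms_le_SOs Q) _)

/-- `PGO / Inn` is a four-group when `-1 ∉ Ω`. -/
theorem exists_hom_pgo_inn_klein [Fintype F] (h2 : (2 : F) ≠ 0) (Q : QuadraticForm F (ι → F))
    (hQ : (polarBilin Q).Nondegenerate) (hn : 5 ≤ Fintype.card ι) (m : ℕ)
    (hm : Fintype.card ι = 2 * m)
    (hδ : ∃ δ : ↥(Cfsg.Geo.quadSimilarityGroup ⇑Q), ¬ IsSquare (multF Q δ : F))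
    (hneg : negOneO Q ∉ Cfsg.Omega F ⇑Q) :
    ∃ φ : ↥(Cfsg.pgoAut F ⇑Q) →* Multiplicative (ZMod 2 × ZMod 2), Function.Surjective φ ∧
      φ.ker = (Cfsg.Inn (Cfsg.POmega F ⇑Q)).subgroupOf (Cfsg.pgoAut F ⇑Q) := by
  rw [← psoAut_eq_inn h2 Q hQ hn m hm hneg]
  exact exists_hom_pgo_pso h2 Q hQ hn m hm hδ

/-- a linear map scaling the form gives a similarity -/
theorem exists_simil_of_linearMap {Q : QuadraticForm F (ι → F)}
    (hQ : (polarBilin Q).Nondegenerate) (L : (ι → F) →ₗ[F] (ι → F)) (ν : Fˣ)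
    (hL : ∀ v, Q (L v) = (ν : F) * Q v) :
    ∃ δ : ↥(Cfsg.Geo.quadSimilarityGroup ⇑Q), (∀ v, ((δ : GL ι F) : Matrix ι ι F) *ᵥ v = L v) ∧
      ∀ v, Q (((δ : GL ι F) : Matrix ι ι F) *ᵥ v) = (ν : F) * Q v := by
  have hpol : ∀ x y, polar Q (L x) (L y) = (ν : F) * polar Q x y := by
    intro x y
    simp only [polar, ← map_add, hL]
    ring
  have hinj : Function.Injective L := by
    rw [← LinearMap.ker_eq_bot, LinearMap.ker_eq_bot']
    intro x hx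
    apply hQ.1
    intro y
    have := hpol x y
    rw [hx] at this
    simp only [polar_zero_left] at this
    rcases mul_eq_zero.1 this.symm with h | h
    · exact absurd h (Units.ne_zero _)
    · exact h
  let e : (ι → F) ≃ₗ[F] (ι → F) := LinearEquiv.ofInjectiveEndo L hinj
  have he : ∀ v, ((glEquiv.symm e : GL ι F) : Matrix ι ι F) *ᵥ v = L v := by
    intro v
    rw [← glEquiv_apply, MulEquiv.apply_symm_apply]
    rfl
  refine ⟨⟨glEquiv.symm e, ν, fun v => ?_⟩, he, fun v => ?_⟩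
  · rw [he, hL]
  · change Q (((glEquiv.symm e : GL ι F) : Matrix ι ι F) *ᵥ v) = _
    rw [he, hL]

end Cfsg.Agent.Lib.Helper44
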