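import Cfsg.Agent.Lib.Helper44.SimilD8
import Cfsg.Agent.Lib.Helper44.PGOStd

set_option autoImplicit false

namespace Cfsg.Agent.Lib.Helper44

open QuadraticMap Module Matrix

universe u

variable {F : Type u} [Field F]

theorem exists_norm_eq [Fintype F] (h2 : (2 : F) ≠ 0) {a b : F}
    (hab : ∀ z₁ z₂ : F, z₁ ^ 2 + a * z₁ * z₂ + b * z₂ ^ 2 = 0 → z₁ = 0 ∧ z₂ = 0) (ν : F) :
    ∃ u₁ u₂ : F, u₁ ^ 2 + a * u₁ * u₂ + b * u₂ ^ 2 = ν := by
  have hd := disc_ne_zero_of_anisotropic F hab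
  have h4 : (4 : F) ≠ 0 := by
    have : (4 : F) = 2 * 2 := by norm_num
    rw [this]; exact mul_ne_zero h2 h2
  have hd' : b - a ^ 2 / 4 ≠ 0 := by
    intro h
    apply hd
    field_simp at h
    linear_combination -h
  obtain ⟨x, y, hxy⟩ := exists_sq_add_sq h2 (one_ne_zero) hd' ν
  refine ⟨x - a * y / 2, y, ?_⟩
  rw [← hxy]
  field_simp
  ring

/-- the diagonal similarity of the plus form -/
theorem plus_exists_simil (m : ℕ) (ν : Fˣ) :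
    ∃ δ : ↥(Cfsg.Geo.quadSimilarityGroup ⇑(plusQF m F)),
      (∀ v, ((δ : GL (Fin m ⊕ Fin m) F) : Matrix (Fin m ⊕ Fin m) (Fin m ⊕ Fin m) F) *ᵥ v
        = fun k => Sum.elim (fun _ => (ν : F)) (fun _ => 1) k * v k) ∧
      ∀ v, plusQF m F (((δ : GL (Fin m ⊕ Fin m) F) : Matrix (Fin m ⊕ Fin m) (Fin m ⊕ Fin m) F) *ᵥ v)
        = (ν : F) * plusQF m F v := by
  obtain ⟨δ, h1, h2⟩ := exists_simil_of_linearMap (plusQF_nondeg m F)
    (Matrix.diagonal (Sum.elim (fun _ => (ν : F)) (fun _ => 1))).mulVecLin ν (by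
      intro v
      rw [plusQF_apply, plusQF_apply, Finset.mul_sum]
      apply Finset.sum_congr rfl
      intro i _
      simp only [Matrix.mulVecLin_apply, Matrix.mulVec_diagonal, Sum.elim_inl, Sum.elim_inr]
      ring)
  refine ⟨δ, fun v => ?_, h2⟩
  rw [h1]
  ext k
  simp only [Matrix.mulVecLin_apply, Matrix.mulVec_diagonal]

/-- the linear map underlying the similarity of the minus form -/
noncomputable def minusL (m : ℕ) (a b ν u₁ u₂ : F) :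
    ((Fin m ⊕ Fin m) ⊕ Fin 2 → F) →ₗ[F] ((Fin m ⊕ Fin m) ⊕ Fin 2 → F) :=
  LinearMap.pi (Sum.elim (Sum.elim (fun i => ν • LinearMap.proj (Sum.inl (Sum.inl i)))
      (fun i => LinearMap.proj (Sum.inl (Sum.inr i))))
    ![u₁ • LinearMap.proj (Sum.inr 0) - (b * u₂) • LinearMap.proj (Sum.inr 1),
      u₂ • LinearMap.proj (Sum.inr 0) + (u₁ + a * u₂) • LinearMap.proj (Sum.inr 1)])

theorem minusQF_minusL (m : ℕ) (a b ν u₁ u₂ : F) (hu : u₁ ^ 2 + a * u₁ * u₂ + b * u₂ ^ 2 = ν)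
    (v : (Fin m ⊕ Fin m) ⊕ Fin 2 → F) :
    minusQF m F a b (minusL m a b ν u₁ u₂ v) = ν * minusQF m F a b v := by
  rw [minusQF_apply, minusQF_apply, mul_add, Finset.mul_sum]
  congr 1
  · apply Finset.sum_congr rfl
    intro i _
    simp [minusL]
    ring
  · simp [minusL]
    rw [← hu]
    ring

theorem minus_exists_simil [Fintype F] (h2 : (2 : F) ≠ 0) (m : ℕ) {a b : F}
    (hab : ∀ z₁ z₂ : F, z₁ ^ 2 + a * z₁ * z₂ + b * z₂ ^ 2 = 0 → z₁ = 0 ∧ z₂ = 0) (ν : Fˣ) :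
    ∃ δ : ↥(Cfsg.Geo.quadSimilarityGroup ⇑(minusQF m F a b)),
      ∀ v, minusQF m F a b (((δ : GL ((Fin m ⊕ Fin m) ⊕ Fin 2) F) : Matrix ((Fin m ⊕ Fin m) ⊕ Fin 2) ((Fin m ⊕ Fin m) ⊕ Fin 2) F) *ᵥ v)
        = (ν : F) * minusQF m F a b v := by
  obtain ⟨u₁, u₂, hu⟩ := exists_norm_eq h2 hab (ν : F)
  obtain ⟨δ, -, h2⟩ := exists_simil_of_linearMap (minusQF_nondeg m F hab)
    (minusL m a b ν u₁ u₂) ν (minusQF_minusL m a b ν u₁ u₂ hu)
  exact ⟨δ, h2⟩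

theorem exists_nonsquare_unit [Fintype F] (h2 : (2 : F) ≠ 0) : ∃ ν : Fˣ, ¬ IsSquare (ν : F) := by
  obtain ⟨ν, hν⟩ := FiniteField.exists_nonsquare (F := F) (by
    intro h
    have : CharP F 2 := by rw [← h]; exact ringChar.charP F
    exact h2 (CharTwo.two_eq_zero))
  have h0 : ν ≠ 0 := by rintro rfl; exact hν (IsSquare.zero)
  exact ⟨Units.mk0 ν h0, hν⟩

theorem plus_exists_nonsquare_simil [Fintype F] (h2 : (2 : F) ≠ 0) (m : ℕ) (hm : 1 ≤ m) :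
    ∃ δ : ↥(Cfsg.Geo.quadSimilarityGroup ⇑(plusQF m F)),
      ¬ IsSquare (multF (plusQF m F) δ : F) := by
  obtain ⟨ν, hν⟩ := exists_nonsquare_unit h2
  obtain ⟨δ, -, h⟩ := plus_exists_simil (F := F) m ν
  have hex : ∃ v, plusQF m F v ≠ 0 := exists_nonsingular (plusQF_nondeg m F) (by simp; omega)
  exact ⟨δ, by rw [multF_unique hex δ ν h]; exact hν⟩

theorem minus_exists_nonsquare_simil [Fintype F] (h2 : (2 : F) ≠ 0) (m : ℕ) {a b : F}
    (hab : ∀ z₁ z₂ : F, z₁ ^ 2 + a * z₁ * z₂ + b * z₂ ^ 2 = 0 → z₁ = 0 ∧ z₂ = 0) :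
    ∃ δ : ↥(Cfsg.Geo.quadSimilarityGroup ⇑(minusQF m F a b)),
      ¬ IsSquare (multF (minusQF m F a b) δ : F) := by
  obtain ⟨ν, hν⟩ := exists_nonsquare_unit h2
  obtain ⟨δ, h⟩ := minus_exists_simil h2 m hab ν
  have hex : ∃ v, minusQF m F a b v ≠ 0 :=
    exists_nonsingular (minusQF_nondeg m F hab) (by simp)
  exact ⟨δ, by rw [multF_unique hex δ ν h]; exact hν⟩

end Cfsg.Agent.Lib.Helper44
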