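import Cfsg.Agent.Lib.Helper44.SimilStd
import Cfsg.Agent.S0760
import Cfsg.Agent.S0831

set_option autoImplicit false

namespace Cfsg.Agent.Lib.Helper44

open QuadraticMap Module Matrix

universe u

variable {F : Type u} [Field F] {ι : Type} [Fintype ι] [DecidableEq ι]

/-- totally singular of dimension `m` -/
def MS (Q : QuadraticForm F (ι → F)) (m : ℕ) (U : Submodule F (ι → F)) : Prop :=
  finrank F U = m ∧ ∀ u ∈ U, Q u = 0

/-- the three subspace parity property -/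
def T3 (Q : QuadraticForm F (ι → F)) (m : ℕ) : Prop :=
  ∀ U W X : Submodule F (ι → F), MS Q m U → MS Q m W → MS Q m X →
    Even ((m - finrank F ↥(U ⊓ W)) + (m - finrank F ↥(W ⊓ X)) + (m - finrank F ↥(U ⊓ X)))

theorem finrank_le_of_sing {Q : QuadraticForm F (ι → F)} (hQ : (polarBilin Q).Nondegenerate)
    {m : ℕ} (hm : Fintype.card ι = 2 * m) (W : Submodule F (ι → F)) (hW : ∀ w ∈ W, Q w = 0) :
    finrank F W ≤ m := by
  have h1 := LinearMap.BilinForm.finrank_orthogonal hQ W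
  have h2 : W ≤ LinearMap.BilinForm.orthogonal (polarBilin Q) W := by
    intro w hw
    rw [LinearMap.BilinForm.mem_orthogonal_iff]
    intro d hd
    have := polar_eq_zero_of_sing hW hd hw
    simpa using this
  have h3 := Submodule.finrank_mono h2
  rw [Module.finrank_fintype_fun_eq_card, hm] at h1
  have h4 : finrank F W ≤ 2 * m := by
    have := Submodule.finrank_le W
    rwa [Module.finrank_fintype_fun_eq_card, hm] at this
  omega

theorem isMax_of_MS {Q : QuadraticForm F (ι → F)} (hQ : (polarBilin Q).Nondegenerate)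
    {m : ℕ} (hm : Fintype.card ι = 2 * m) {U : Submodule F (ι → F)} (hU : MS Q m U) :
    Cfsg.IsMaxTotallySingular ⇑Q U :=
  ⟨hU.2, fun W hW hle => (Submodule.eq_of_le_of_finrank_le hle
    (by rw [hU.1]; exact finrank_le_of_sing hQ hm W hW)).symm⟩

theorem isMax_iff_MS [Finite F] {Q : QuadraticForm F (ι → F)} (hQ : (polarBilin Q).Nondegenerate)
    {m : ℕ} (hm : Fintype.card ι = 2 * m) {U₀ : Submodule F (ι → F)} (hU₀ : MS Q m U₀)
    (U : Submodule F (ι → F)) : Cfsg.IsMaxTotallySingular ⇑Q U ↔ MS Q m U := by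
  constructor
  · intro hU
    have h0 := isMax_of_MS hQ hm hU₀
    have := (Cfsg.Agent.S0760.result Q hQ U U₀ hU.1 h0.1 (fun W h1 h2 => hU.2 W h2 h1)
      (fun W h1 h2 => h0.2 W h2 h1)).1
    exact ⟨by rw [this, hU₀.1], hU.1⟩
  · exact isMax_of_MS hQ hm

theorem toLin'_eq_glEquiv (g : GL ι F) :
    Matrix.toLin' (g : Matrix ι ι F) = ((glEquiv g : (ι → F) ≃ₗ[F] (ι → F)) : (ι → F) →ₗ[F] (ι → F)) := by
  rw [glEquiv_coe_toLin, Matrix.toLin'_apply']

theorem MS_map {Q : QuadraticForm F (ι → F)} {m : ℕ} (g : ↥(Cfsg.Geo.quadSimilarityGroup ⇑Q))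
    {U : Submodule F (ι → F)} (hU : MS Q m U) :
    MS Q m (U.map (Matrix.toLin' ((g : GL ι F) : Matrix ι ι F))) := by
  constructor
  · rw [toLin'_eq_glEquiv, LinearEquiv.finrank_map_eq, hU.1]
  · rintro _ ⟨u, hu, rfl⟩
    rw [Matrix.toLin'_apply, multF_spec, hU.2 u hu, mul_zero]

theorem finrank_map_inf_map (g : GL ι F) (U W : Submodule F (ι → F)) :
    finrank F ↥(U.map (Matrix.toLin' (g : Matrix ι ι F)) ⊓ W.map (Matrix.toLin' (g : Matrix ι ι F)))
      = finrank F ↥(U ⊓ W) := by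
  rw [toLin'_eq_glEquiv, ← Submodule.map_inf _ (glEquiv g).injective, LinearEquiv.finrank_map_eq]

theorem parity_transfer {Q : QuadraticForm F (ι → F)} {m : ℕ} (hT : T3 Q m)
    (g : ↥(Cfsg.Geo.quadSimilarityGroup ⇑Q)) {U U₀ : Submodule F (ι → F)} (hU : MS Q m U)
    (hU₀ : MS Q m U₀) :
    Even (m - finrank F ↥(U ⊓ U.map (Matrix.toLin' ((g : GL ι F) : Matrix ι ι F)))) ↔
      Even (m - finrank F ↥(U₀ ⊓ U₀.map (Matrix.toLin' ((g : GL ι F) : Matrix ι ι F)))) := by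
  have h1 := hT U U₀ _ hU hU₀ (MS_map g hU)
  have h2 := hT U₀ _ _ hU₀ (MS_map g hU₀) (MS_map g hU)
  rw [finrank_map_inf_map, inf_comm U₀ U] at h2
  rw [Nat.even_iff] at h1 h2
  rw [Nat.even_iff, Nat.even_iff]
  omega

theorem even_iff_det_eq_one [Fintype F] (h2 : (2 : F) ≠ 0) {Q : QuadraticForm F (ι → F)}
    (hQ : (polarBilin Q).Nondegenerate) {m : ℕ} (hm : Fintype.card ι = 2 * m)
    {U₀ : Submodule F (ι → F)} (hU₀ : MS Q m U₀) (h : ↥(Cfsg.isometryGroup F ⇑Q)) :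
    Even (m - finrank F ↥(U₀ ⊓ U₀.map (Matrix.toLin' ((h : GL ι F) : Matrix ι ι F)))) ↔
      ((h : GL ι F) : Matrix ι ι F).det = 1 := by
  have hc : Fintype.card F ≠ 2 := by
    intro hc
    apply h2
    have := Nat.cast_card_eq_zero F
    rw [hc] at this
    exact_mod_cast this
  obtain ⟨l, hl, hgl⟩ := exists_list_reflectionMatrix Q hQ (Or.inl hc) h
  have h3 := even_finrank_inf_map_of_prod Q hQ hU₀.2 (by rw [hU₀.1, hm]) h l hl hgl
  rw [det_of_prod Q h l hl hgl, Matrix.toLin'_apply']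
  have h4 : finrank F ↥(U₀ ⊓ U₀.map (Matrix.mulVecLin ((h : GL ι F) : Matrix ι ι F))) ≤ m := by
    conv_rhs => rw [← hU₀.1]
    exact Submodule.finrank_mono inf_le_left
  rw [hU₀.1] at h3
  have h5 : Even (m - finrank F ↥(U₀ ⊓ U₀.map (Matrix.mulVecLin ((h : GL ι F) : Matrix ι ι F))))
      ↔ Even l.length := by
    rw [Nat.even_iff] at h3
    rw [Nat.even_iff, Nat.even_iff]
    omega
  rw [h5]
  constructor
  · intro he; exact he.neg_one_pow
  · intro he
    by_contra hne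
    rw [Nat.not_even_iff_odd] at hne
    rw [hne.neg_one_pow] at he
    apply h2
    linear_combination -he

/-- a similarity preserves the two classes iff its determinant is that of a similarity with the
same multiplier fixing a maximal totally singular subspace -/
theorem preserves_iff [Fintype F] (h2 : (2 : F) ≠ 0) {Q : QuadraticForm F (ι → F)}
    (hQ : (polarBilin Q).Nondegenerate) {m : ℕ} (hm : Fintype.card ι = 2 * m) (hT : T3 Q m)
    {U₀ : Submodule F (ι → F)} (hU₀ : MS Q m U₀) (g δ : ↥(Cfsg.Geo.quadSimilarityGroup ⇑Q))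
    (hδU : U₀.map (Matrix.toLin' ((δ : GL ι F) : Matrix ι ι F)) = U₀)
    (hδm : multF Q δ = multF Q g) :
    Cfsg.PreservesSingularClasses ⇑Q ((g : GL ι F) : Matrix ι ι F) ↔
      ((g : GL ι F) : Matrix ι ι F).det = ((δ : GL ι F) : Matrix ι ι F).det := by
  have e1 : Cfsg.PreservesSingularClasses ⇑Q ((g : GL ι F) : Matrix ι ι F) ↔
      Even (m - finrank F ↥(U₀ ⊓ U₀.map (Matrix.toLin' ((g : GL ι F) : Matrix ι ι F)))) := by
    constructor
    · intro h
      have := h U₀ (isMax_of_MS hQ hm hU₀)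
      rw [Cfsg.SameParityClass, Cfsg.imageSubmodule, hU₀.1] at this
      exact this
    · intro h U hU
      rw [isMax_iff_MS hQ hm hU₀] at hU
      rw [Cfsg.SameParityClass, Cfsg.imageSubmodule, hU.1]
      exact (parity_transfer hT g hU hU₀).2 h
  have hiso : ((g * δ⁻¹ : ↥(Cfsg.Geo.quadSimilarityGroup ⇑Q)) : GL ι F) ∈ Cfsg.isometryGroup F ⇑Q := by
    rw [mem_isometryGroup]
    intro u
    have h3 := multF_spec Q δ (((δ⁻¹ : ↥(Cfsg.Geo.quadSimilarityGroup ⇑Q)) : GL ι F) *ᵥ u)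
    have h4 : (((δ : GL ι F) : Matrix ι ι F)) *ᵥ ((((δ⁻¹ : ↥(Cfsg.Geo.quadSimilarityGroup ⇑Q)) : GL ι F) : Matrix ι ι F) *ᵥ u) = u := by
      rw [mulVec_mulVec, ← Units.val_mul, ← Subgroup.coe_mul, mul_inv_cancel]
      simp
    rw [h4] at h3
    rw [Subgroup.coe_mul, Units.val_mul, ← mulVec_mulVec, multF_spec, ← hδm, ← h3]
  have hmap : U₀.map (Matrix.toLin' ((g : GL ι F) : Matrix ι ι F)) =
      U₀.map (Matrix.toLin' (((g * δ⁻¹ : ↥(Cfsg.Geo.quadSimilarityGroup ⇑Q)) : GL ι F) : Matrix ι ι F)) := by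
    conv_rhs => rw [← hδU]
    rw [← Submodule.map_comp, ← Matrix.toLin'_mul, ← Units.val_mul, ← Subgroup.coe_mul,
      inv_mul_cancel_right]
  rw [e1, hmap]
  have h5 := even_iff_det_eq_one h2 hQ hm hU₀ ⟨_, hiso⟩
  rw [h5]
  have hd : ((δ : GL ι F) : Matrix ι ι F).det ≠ 0 := by
    have := (Matrix.GeneralLinearGroup.det (δ : GL ι F)).ne_zero
    simpa using this
  have h6 : (((g * δ⁻¹ : ↥(Cfsg.Geo.quadSimilarityGroup ⇑Q)) : GL ι F) : Matrix ι ι F).det
      * ((δ : GL ι F) : Matrix ι ι F).det = ((g : GL ι F) : Matrix ι ι F).det := by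
    rw [← Matrix.det_mul, ← Units.val_mul, ← Subgroup.coe_mul, inv_mul_cancel_right]
  change (((g * δ⁻¹ : ↥(Cfsg.Geo.quadSimilarityGroup ⇑Q)) : GL ι F) : Matrix ι ι F).det = 1 ↔ _
  rw [← h6]
  constructor
  · intro h; rw [h, one_mul]
  · intro h
    exact mul_right_cancel₀ hd (by rw [h, one_mul])

end Cfsg.Agent.Lib.Helper44
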